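import Mathlib
import Cfsg.Agent.Rec.McL.DataP
import Cfsg.Agent.Rec.B5
import Cfsg.Agent.Rec.Orb

/-! Generated by tools/rec: affine models of the normalisers of the two elementary abelian subgroups -/

set_option autoImplicit false
set_option maxRecDepth 100000
set_option linter.unusedVariables false
set_option exponentiation.threshold 100000

namespace Cfsg.Agent.Rec.McL

open Cfsg.Agent.Spor Cfsg.Agent.Rec

universe u

noncomputable def cNE : List ℕ := [(nat_lit 0x1041051), (nat_lit 0x1041241), (nat_lit 0x1045041), (nat_lit 0x10c1041), (nat_lit 0x104134d), (nat_lit 0x10412d9), (nat_lit 0x1047043), (nat_lit 0x10e1043), (nat_lit 0x1047859), (nat_lit 0x10e1061)]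

theorem cNE_ok : allL cNE B5.v = true := by decide +kernel

noncomputable def csE : ℕ := (nat_lit 0x10e2041)

noncomputable def KE_t : ST :=
(.node (nat_lit 0x10a3041) (.node (nat_lit 0x1045041) (.node (nat_lit 0x1027241) (.node (nat_lit 0x102334d) (.node (nat_lit 0x10231c5) (.node (nat_lit 0x10230d9) (.node (nat_lit 0x1023051) (.leaf (nat_lit 0x1023041) (nat_lit 774))
 (.node (nat_lit 0x10230c9) (.leaf (nat_lit 0x1023051) (nat_lit 1030))
 (.leaf (nat_lit 0x10230c9) (nat_lit 1286))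
)) (.node (nat_lit 0x102314d) (.leaf (nat_lit 0x10230d9) (nat_lit 1286))
 (.node (nat_lit 0x102315d) (.leaf (nat_lit 0x102314d) (nat_lit 1286))
 (.leaf (nat_lit 0x102315d) (nat_lit 1030))
))) (.node (nat_lit 0x1023251) (.node (nat_lit 0x10231d5) (.leaf (nat_lit 0x10231c5) (nat_lit 1282))
 (.node (nat_lit 0x1023241) (.leaf (nat_lit 0x10231d5) (nat_lit 1026))
 (.leaf (nat_lit 0x1023241) (nat_lit 1030))
)) (.node (nat_lit 0x10232c9) (.leaf (nat_lit 0x1023251) (nat_lit 1286))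
 (.node (nat_lit 0x10232d9) (.leaf (nat_lit 0x10232c9) (nat_lit 1030))
 (.leaf (nat_lit 0x10232d9) (nat_lit 1030))
)))) (.node (nat_lit 0x10270c9) (.node (nat_lit 0x10233d5) (.node (nat_lit 0x102335d) (.leaf (nat_lit 0x102334d) (nat_lit 1030))
 (.node (nat_lit 0x10233c5) (.leaf (nat_lit 0x102335d) (nat_lit 1286))
 (.leaf (nat_lit 0x10233c5) (nat_lit 1286))
)) (.node (nat_lit 0x1027041) (.leaf (nat_lit 0x10233d5) (nat_lit 1030))
 (.node (nat_lit 0x1027051) (.leaf (nat_lit 0x1027041) (nat_lit 518))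
 (.leaf (nat_lit 0x1027051) (nat_lit 774))
))) (.node (nat_lit 0x102715d) (.node (nat_lit 0x10270d9) (.leaf (nat_lit 0x10270c9) (nat_lit 1286))
 (.node (nat_lit 0x102714d) (.leaf (nat_lit 0x10270d9) (nat_lit 1030))
 (.leaf (nat_lit 0x102714d) (nat_lit 1030))
)) (.node (nat_lit 0x10271c5) (.leaf (nat_lit 0x102715d) (nat_lit 1286))
 (.node (nat_lit 0x10271d5) (.leaf (nat_lit 0x10271c5) (nat_lit 1030))
 (.leaf (nat_lit 0x10271d5) (nat_lit 774))
))))) (.node (nat_lit 0x104114d) (.node (nat_lit 0x10273c5) (.node (nat_lit 0x10272d9) (.node (nat_lit 0x1027251) (.leaf (nat_lit 0x1027241) (nat_lit 774))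
 (.node (nat_lit 0x10272c9) (.leaf (nat_lit 0x1027251) (nat_lit 1030))
 (.leaf (nat_lit 0x10272c9) (nat_lit 1030))
)) (.node (nat_lit 0x102734d) (.leaf (nat_lit 0x10272d9) (nat_lit 774))
 (.node (nat_lit 0x102735d) (.leaf (nat_lit 0x102734d) (nat_lit 774))
 (.leaf (nat_lit 0x102735d) (nat_lit 1030))
))) (.node (nat_lit 0x1041051) (.node (nat_lit 0x10273d5) (.leaf (nat_lit 0x10273c5) (nat_lit 1286))
 (.node (nat_lit 0x1041041) (.leaf (nat_lit 0x10273d5) (nat_lit 1030))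
 (.leaf (nat_lit 0x1041041) (nat_lit 0))
)) (.node (nat_lit 0x10410c9) (.leaf (nat_lit 0x1041051) (nat_lit 256))
 (.node (nat_lit 0x10410d9) (.leaf (nat_lit 0x10410c9) (nat_lit 773))
 (.leaf (nat_lit 0x10410d9) (nat_lit 517))
)))) (.node (nat_lit 0x10412c9) (.node (nat_lit 0x10411d5) (.node (nat_lit 0x104115d) (.leaf (nat_lit 0x104114d) (nat_lit 516))
 (.node (nat_lit 0x10411c5) (.leaf (nat_lit 0x104115d) (nat_lit 772))
 (.leaf (nat_lit 0x10411c5) (nat_lit 773))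
)) (.node (nat_lit 0x1041241) (.leaf (nat_lit 0x10411d5) (nat_lit 517))
 (.node (nat_lit 0x1041251) (.leaf (nat_lit 0x1041241) (nat_lit 257))
 (.leaf (nat_lit 0x1041251) (nat_lit 513))
))) (.node (nat_lit 0x104135d) (.node (nat_lit 0x10412d9) (.leaf (nat_lit 0x10412c9) (nat_lit 517))
 (.node (nat_lit 0x104134d) (.leaf (nat_lit 0x10412d9) (nat_lit 261))
 (.leaf (nat_lit 0x104134d) (nat_lit 260))
)) (.node (nat_lit 0x10413c5) (.leaf (nat_lit 0x104135d) (nat_lit 516))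
 (.node (nat_lit 0x10413d5) (.leaf (nat_lit 0x10413c5) (nat_lit 1029))
 (.leaf (nat_lit 0x10413d5) (nat_lit 773))
)))))) (.node (nat_lit 0x1062241) (.node (nat_lit 0x104534d) (.node (nat_lit 0x10451c5) (.node (nat_lit 0x10450d9) (.node (nat_lit 0x1045051) (.leaf (nat_lit 0x1045041) (nat_lit 258))
 (.node (nat_lit 0x10450c9) (.leaf (nat_lit 0x1045051) (nat_lit 514))
 (.leaf (nat_lit 0x10450c9) (nat_lit 773))
)) (.node (nat_lit 0x104514d) (.leaf (nat_lit 0x10450d9) (nat_lit 517))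
 (.node (nat_lit 0x104515d) (.leaf (nat_lit 0x104514d) (nat_lit 770))
 (.leaf (nat_lit 0x104515d) (nat_lit 772))
))) (.node (nat_lit 0x1045251) (.node (nat_lit 0x10451d5) (.leaf (nat_lit 0x10451c5) (nat_lit 772))
 (.node (nat_lit 0x1045241) (.leaf (nat_lit 0x10451d5) (nat_lit 770))
 (.leaf (nat_lit 0x1045241) (nat_lit 514))
)) (.node (nat_lit 0x10452c9) (.leaf (nat_lit 0x1045251) (nat_lit 770))
 (.node (nat_lit 0x10452d9) (.leaf (nat_lit 0x10452c9) (nat_lit 770))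
 (.leaf (nat_lit 0x10452d9) (nat_lit 514))
)))) (.node (nat_lit 0x10620c9) (.node (nat_lit 0x10453d5) (.node (nat_lit 0x104535d) (.leaf (nat_lit 0x104534d) (nat_lit 514))
 (.node (nat_lit 0x10453c5) (.leaf (nat_lit 0x104535d) (nat_lit 516))
 (.leaf (nat_lit 0x10453c5) (nat_lit 773))
)) (.node (nat_lit 0x1062041) (.leaf (nat_lit 0x10453d5) (nat_lit 773))
 (.node (nat_lit 0x1062051) (.leaf (nat_lit 0x1062041) (nat_lit 518))
 (.leaf (nat_lit 0x1062051) (nat_lit 774))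
))) (.node (nat_lit 0x106215d) (.node (nat_lit 0x10620d9) (.leaf (nat_lit 0x10620c9) (nat_lit 1030))
 (.node (nat_lit 0x106214d) (.leaf (nat_lit 0x10620d9) (nat_lit 774))
 (.leaf (nat_lit 0x106214d) (nat_lit 1030))
)) (.node (nat_lit 0x10621c5) (.leaf (nat_lit 0x106215d) (nat_lit 1030))
 (.node (nat_lit 0x10621d5) (.leaf (nat_lit 0x10621c5) (nat_lit 1027))
 (.leaf (nat_lit 0x10621d5) (nat_lit 771))
))))) (.node (nat_lit 0x106614d) (.node (nat_lit 0x10623c5) (.node (nat_lit 0x10622d9) (.node (nat_lit 0x1062251) (.leaf (nat_lit 0x1062241) (nat_lit 774))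
 (.node (nat_lit 0x10622c9) (.leaf (nat_lit 0x1062251) (nat_lit 1030))
 (.leaf (nat_lit 0x10622c9) (nat_lit 1030))
)) (.node (nat_lit 0x106234d) (.leaf (nat_lit 0x10622d9) (nat_lit 774))
 (.node (nat_lit 0x106235d) (.leaf (nat_lit 0x106234d) (nat_lit 774))
 (.leaf (nat_lit 0x106235d) (nat_lit 774))
))) (.node (nat_lit 0x1066051) (.node (nat_lit 0x10623d5) (.leaf (nat_lit 0x10623c5) (nat_lit 772))
 (.node (nat_lit 0x1066041) (.leaf (nat_lit 0x10623d5) (nat_lit 1028))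
 (.leaf (nat_lit 0x1066041) (nat_lit 518))
)) (.node (nat_lit 0x10660c9) (.leaf (nat_lit 0x1066051) (nat_lit 774))
 (.node (nat_lit 0x10660d9) (.leaf (nat_lit 0x10660c9) (nat_lit 1030))
 (.leaf (nat_lit 0x10660d9) (nat_lit 1030))
)))) (.node (nat_lit 0x10662c9) (.node (nat_lit 0x10661d5) (.node (nat_lit 0x106615d) (.leaf (nat_lit 0x106614d) (nat_lit 1030))
 (.node (nat_lit 0x10661c5) (.leaf (nat_lit 0x106615d) (nat_lit 774))
 (.leaf (nat_lit 0x10661c5) (nat_lit 1030))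
)) (.node (nat_lit 0x1066241) (.leaf (nat_lit 0x10661d5) (nat_lit 1028))
 (.node (nat_lit 0x1066251) (.leaf (nat_lit 0x1066241) (nat_lit 774))
 (.leaf (nat_lit 0x1066251) (nat_lit 1030))
))) (.node (nat_lit 0x106635d) (.node (nat_lit 0x10662d9) (.leaf (nat_lit 0x10662c9) (nat_lit 774))
 (.node (nat_lit 0x106634d) (.leaf (nat_lit 0x10662d9) (nat_lit 774))
 (.leaf (nat_lit 0x106634d) (nat_lit 774))
)) (.node (nat_lit 0x10663c5) (.leaf (nat_lit 0x106635d) (nat_lit 1030))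
 (.node (nat_lit 0x10663d5) (.leaf (nat_lit 0x10663c5) (nat_lit 1028))
 (.leaf (nat_lit 0x10663d5) (nat_lit 772))
))))))) (.node (nat_lit 0x10c5041) (.node (nat_lit 0x10a7241) (.node (nat_lit 0x10a334d) (.node (nat_lit 0x10a31c5) (.node (nat_lit 0x10a30d9) (.node (nat_lit 0x10a3051) (.leaf (nat_lit 0x10a3041) (nat_lit 774))
 (.node (nat_lit 0x10a30c9) (.leaf (nat_lit 0x10a3051) (nat_lit 1030))
 (.leaf (nat_lit 0x10a30c9) (nat_lit 1286))
)) (.node (nat_lit 0x10a314d) (.leaf (nat_lit 0x10a30d9) (nat_lit 1030))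
 (.node (nat_lit 0x10a315d) (.leaf (nat_lit 0x10a314d) (nat_lit 1286))
 (.leaf (nat_lit 0x10a315d) (nat_lit 1286))
))) (.node (nat_lit 0x10a3251) (.node (nat_lit 0x10a31d5) (.leaf (nat_lit 0x10a31c5) (nat_lit 1286))
 (.node (nat_lit 0x10a3241) (.leaf (nat_lit 0x10a31d5) (nat_lit 1030))
 (.leaf (nat_lit 0x10a3241) (nat_lit 1030))
)) (.node (nat_lit 0x10a32c9) (.leaf (nat_lit 0x10a3251) (nat_lit 1286))
 (.node (nat_lit 0x10a32d9) (.leaf (nat_lit 0x10a32c9) (nat_lit 1286))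
 (.leaf (nat_lit 0x10a32d9) (nat_lit 1030))
)))) (.node (nat_lit 0x10a70c9) (.node (nat_lit 0x10a33d5) (.node (nat_lit 0x10a335d) (.leaf (nat_lit 0x10a334d) (nat_lit 1030))
 (.node (nat_lit 0x10a33c5) (.leaf (nat_lit 0x10a335d) (nat_lit 1030))
 (.leaf (nat_lit 0x10a33c5) (nat_lit 1030))
)) (.node (nat_lit 0x10a7041) (.leaf (nat_lit 0x10a33d5) (nat_lit 1286))
 (.node (nat_lit 0x10a7051) (.leaf (nat_lit 0x10a7041) (nat_lit 774))
 (.leaf (nat_lit 0x10a7051) (nat_lit 1030))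
))) (.node (nat_lit 0x10a715d) (.node (nat_lit 0x10a70d9) (.leaf (nat_lit 0x10a70c9) (nat_lit 1028))
 (.node (nat_lit 0x10a714d) (.leaf (nat_lit 0x10a70d9) (nat_lit 1284))
 (.leaf (nat_lit 0x10a714d) (nat_lit 1030))
)) (.node (nat_lit 0x10a71c5) (.leaf (nat_lit 0x10a715d) (nat_lit 1286))
 (.node (nat_lit 0x10a71d5) (.leaf (nat_lit 0x10a71c5) (nat_lit 1030))
 (.leaf (nat_lit 0x10a71d5) (nat_lit 1030))
))))) (.node (nat_lit 0x10c114d) (.node (nat_lit 0x10a73c5) (.node (nat_lit 0x10a72d9) (.node (nat_lit 0x10a7251) (.leaf (nat_lit 0x10a7241) (nat_lit 1030))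
 (.node (nat_lit 0x10a72c9) (.leaf (nat_lit 0x10a7251) (nat_lit 1286))
 (.leaf (nat_lit 0x10a72c9) (nat_lit 1286))
)) (.node (nat_lit 0x10a734d) (.leaf (nat_lit 0x10a72d9) (nat_lit 1030))
 (.node (nat_lit 0x10a735d) (.leaf (nat_lit 0x10a734d) (nat_lit 1030))
 (.leaf (nat_lit 0x10a735d) (nat_lit 1286))
))) (.node (nat_lit 0x10c1051) (.node (nat_lit 0x10a73d5) (.leaf (nat_lit 0x10a73c5) (nat_lit 1286))
 (.node (nat_lit 0x10c1041) (.leaf (nat_lit 0x10a73d5) (nat_lit 1286))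
 (.leaf (nat_lit 0x10c1041) (nat_lit 259))
)) (.node (nat_lit 0x10c10c9) (.leaf (nat_lit 0x10c1051) (nat_lit 515))
 (.node (nat_lit 0x10c10d9) (.leaf (nat_lit 0x10c10c9) (nat_lit 773))
 (.leaf (nat_lit 0x10c10d9) (nat_lit 771))
)))) (.node (nat_lit 0x10c12c9) (.node (nat_lit 0x10c11d5) (.node (nat_lit 0x10c115d) (.leaf (nat_lit 0x10c114d) (nat_lit 772))
 (.node (nat_lit 0x10c11c5) (.leaf (nat_lit 0x10c115d) (nat_lit 516))
 (.leaf (nat_lit 0x10c11c5) (nat_lit 773))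
)) (.node (nat_lit 0x10c1241) (.leaf (nat_lit 0x10c11d5) (nat_lit 771))
 (.node (nat_lit 0x10c1251) (.leaf (nat_lit 0x10c1241) (nat_lit 515))
 (.leaf (nat_lit 0x10c1251) (nat_lit 771))
))) (.node (nat_lit 0x10c135d) (.node (nat_lit 0x10c12d9) (.leaf (nat_lit 0x10c12c9) (nat_lit 517))
 (.node (nat_lit 0x10c134d) (.leaf (nat_lit 0x10c12d9) (nat_lit 515))
 (.leaf (nat_lit 0x10c134d) (nat_lit 515))
)) (.node (nat_lit 0x10c13c5) (.leaf (nat_lit 0x10c135d) (nat_lit 771))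
 (.node (nat_lit 0x10c13d5) (.leaf (nat_lit 0x10c13c5) (nat_lit 772))
 (.leaf (nat_lit 0x10c13d5) (nat_lit 773))
)))))) (.node (nat_lit 0x10e2241) (.node (nat_lit 0x10c534d) (.node (nat_lit 0x10c51c5) (.node (nat_lit 0x10c50d9) (.node (nat_lit 0x10c5051) (.leaf (nat_lit 0x10c5041) (nat_lit 515))
 (.node (nat_lit 0x10c50c9) (.leaf (nat_lit 0x10c5051) (nat_lit 771))
 (.leaf (nat_lit 0x10c50c9) (nat_lit 773))
)) (.node (nat_lit 0x10c514d) (.leaf (nat_lit 0x10c50d9) (nat_lit 771))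
 (.node (nat_lit 0x10c515d) (.leaf (nat_lit 0x10c514d) (nat_lit 772))
 (.leaf (nat_lit 0x10c515d) (nat_lit 770))
))) (.node (nat_lit 0x10c5251) (.node (nat_lit 0x10c51d5) (.leaf (nat_lit 0x10c51c5) (nat_lit 1029))
 (.node (nat_lit 0x10c5241) (.leaf (nat_lit 0x10c51d5) (nat_lit 1028))
 (.leaf (nat_lit 0x10c5241) (nat_lit 771))
)) (.node (nat_lit 0x10c52c9) (.leaf (nat_lit 0x10c5251) (nat_lit 1027))
 (.node (nat_lit 0x10c52d9) (.leaf (nat_lit 0x10c52c9) (nat_lit 770))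
 (.leaf (nat_lit 0x10c52d9) (nat_lit 771))
)))) (.node (nat_lit 0x10e20c9) (.node (nat_lit 0x10c53d5) (.node (nat_lit 0x10c535d) (.leaf (nat_lit 0x10c534d) (nat_lit 771))
 (.node (nat_lit 0x10c53c5) (.leaf (nat_lit 0x10c535d) (nat_lit 771))
 (.leaf (nat_lit 0x10c53c5) (nat_lit 1027))
)) (.node (nat_lit 0x10e2041) (.leaf (nat_lit 0x10c53d5) (nat_lit 1029))
 (.node (nat_lit 0x10e2051) (.leaf (nat_lit 0x10e2041) (nat_lit 262))
 (.leaf (nat_lit 0x10e2051) (nat_lit 518))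
))) (.node (nat_lit 0x10e215d) (.node (nat_lit 0x10e20d9) (.leaf (nat_lit 0x10e20c9) (nat_lit 1030))
 (.node (nat_lit 0x10e214d) (.leaf (nat_lit 0x10e20d9) (nat_lit 774))
 (.leaf (nat_lit 0x10e214d) (nat_lit 774))
)) (.node (nat_lit 0x10e21c5) (.leaf (nat_lit 0x10e215d) (nat_lit 1030))
 (.node (nat_lit 0x10e21d5) (.leaf (nat_lit 0x10e21c5) (nat_lit 772))
 (.leaf (nat_lit 0x10e21d5) (nat_lit 516))
))))) (.node (nat_lit 0x10e614d) (.node (nat_lit 0x10e23c5) (.node (nat_lit 0x10e22d9) (.node (nat_lit 0x10e2251) (.leaf (nat_lit 0x10e2241) (nat_lit 518))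
 (.node (nat_lit 0x10e22c9) (.leaf (nat_lit 0x10e2251) (nat_lit 774))
 (.leaf (nat_lit 0x10e22c9) (nat_lit 774))
)) (.node (nat_lit 0x10e234d) (.leaf (nat_lit 0x10e22d9) (nat_lit 518))
 (.node (nat_lit 0x10e235d) (.leaf (nat_lit 0x10e234d) (nat_lit 518))
 (.leaf (nat_lit 0x10e235d) (nat_lit 774))
))) (.node (nat_lit 0x10e6051) (.node (nat_lit 0x10e23d5) (.leaf (nat_lit 0x10e23c5) (nat_lit 1028))
 (.node (nat_lit 0x10e6041) (.leaf (nat_lit 0x10e23d5) (nat_lit 772))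
 (.leaf (nat_lit 0x10e6041) (nat_lit 514))
)) (.node (nat_lit 0x10e60c9) (.leaf (nat_lit 0x10e6051) (nat_lit 770))
 (.node (nat_lit 0x10e60d9) (.leaf (nat_lit 0x10e60c9) (nat_lit 1030))
 (.leaf (nat_lit 0x10e60d9) (nat_lit 1026))
)))) (.node (nat_lit 0x10e62c9) (.node (nat_lit 0x10e61d5) (.node (nat_lit 0x10e615d) (.leaf (nat_lit 0x10e614d) (nat_lit 773))
 (.node (nat_lit 0x10e61c5) (.leaf (nat_lit 0x10e615d) (nat_lit 1029))
 (.leaf (nat_lit 0x10e61c5) (nat_lit 772))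
)) (.node (nat_lit 0x10e6241) (.leaf (nat_lit 0x10e61d5) (nat_lit 770))
 (.node (nat_lit 0x10e6251) (.leaf (nat_lit 0x10e6241) (nat_lit 770))
 (.leaf (nat_lit 0x10e6251) (nat_lit 1026))
))) (.node (nat_lit 0x10e635d) (.node (nat_lit 0x10e62d9) (.leaf (nat_lit 0x10e62c9) (nat_lit 1026))
 (.node (nat_lit 0x10e634d) (.leaf (nat_lit 0x10e62d9) (nat_lit 770))
 (.leaf (nat_lit 0x10e634d) (nat_lit 770))
)) (.node (nat_lit 0x10e63c5) (.leaf (nat_lit 0x10e635d) (nat_lit 1026))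
 (.node (nat_lit 0x10e63d5) (.leaf (nat_lit 0x10e63c5) (nat_lit 1028))
 (.leaf (nat_lit 0x10e63d5) (nat_lit 1026))
))))))))

theorem KE_ok : genOK B5.A [(nat_lit 0x1041051), (nat_lit 0x1041241), (nat_lit 0x1045041), (nat_lit 0x10c1041), (nat_lit 0x104134d), (nat_lit 0x10412d9), (nat_lit 0x10e2041)] KE_t (nat_lit 192) = true := by decide +kernel

noncomputable def UE_t : ST :=
(.node (nat_lit 0x10c1051) (.node (nat_lit 0x1045051) (.node (nat_lit 0x1041251) (.leaf (nat_lit 0x1041241) (nat_lit 0))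
 (.node (nat_lit 0x1045041) (.leaf (nat_lit 0x1041251) (nat_lit 262))
 (.leaf (nat_lit 0x1045041) (nat_lit 517))
)) (.node (nat_lit 0x1045251) (.node (nat_lit 0x1045241) (.leaf (nat_lit 0x1045051) (nat_lit 773))
 (.leaf (nat_lit 0x1045241) (nat_lit 264))
) (.node (nat_lit 0x10c1041) (.leaf (nat_lit 0x1045251) (nat_lit 520))
 (.leaf (nat_lit 0x10c1041) (nat_lit 1030))
))) (.node (nat_lit 0x10c5041) (.node (nat_lit 0x10c1241) (.leaf (nat_lit 0x10c1051) (nat_lit 1032))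
 (.node (nat_lit 0x10c1251) (.leaf (nat_lit 0x10c1241) (nat_lit 774))
 (.leaf (nat_lit 0x10c1251) (nat_lit 1030))
)) (.node (nat_lit 0x10c5241) (.node (nat_lit 0x10c5051) (.leaf (nat_lit 0x10c5041) (nat_lit 775))
 (.leaf (nat_lit 0x10c5051) (nat_lit 772))
) (.node (nat_lit 0x10c5251) (.leaf (nat_lit 0x10c5241) (nat_lit 775))
 (.leaf (nat_lit 0x10c5251) (nat_lit 519))
))))

theorem UE_ok : orbOK B5.A [(nat_lit 0x1041051), (nat_lit 0x1041241), (nat_lit 0x1045041), (nat_lit 0x10c1041), (nat_lit 0x104134d), (nat_lit 0x10412d9), (nat_lit 0x1047043), (nat_lit 0x10e1043), (nat_lit 0x1047859)] (nat_lit 0x1041241) UE_t (nat_lit 14) = true := by decide +kernel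

noncomputable def ZE_t : ST :=
(.node (nat_lit 0x10c1041) (.node (nat_lit 0x1045041) (.node (nat_lit 0x1041241) (.leaf (nat_lit 0x1041051) (nat_lit 0))
 (.node (nat_lit 0x1041251) (.leaf (nat_lit 0x1041241) (nat_lit 518))
 (.leaf (nat_lit 0x1041251) (nat_lit 265))
)) (.node (nat_lit 0x1045241) (.node (nat_lit 0x1045051) (.leaf (nat_lit 0x1045041) (nat_lit 1029))
 (.leaf (nat_lit 0x1045051) (nat_lit 773))
) (.node (nat_lit 0x1045251) (.leaf (nat_lit 0x1045241) (nat_lit 776))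
 (.leaf (nat_lit 0x1045251) (nat_lit 520))
))) (.node (nat_lit 0x10c5041) (.node (nat_lit 0x10c1241) (.node (nat_lit 0x10c1051) (.leaf (nat_lit 0x10c1041) (nat_lit 1032))
 (.leaf (nat_lit 0x10c1051) (nat_lit 1030))
) (.node (nat_lit 0x10c1251) (.leaf (nat_lit 0x10c1241) (nat_lit 1286))
 (.leaf (nat_lit 0x10c1251) (nat_lit 1030))
)) (.node (nat_lit 0x10c5241) (.node (nat_lit 0x10c5051) (.leaf (nat_lit 0x10c5041) (nat_lit 1028))
 (.leaf (nat_lit 0x10c5051) (nat_lit 777))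
) (.node (nat_lit 0x10c5251) (.leaf (nat_lit 0x10c5241) (nat_lit 775))
 (.leaf (nat_lit 0x10c5251) (nat_lit 1031))
))))

theorem ZE_ok : orbOK B5.A [(nat_lit 0x1041051), (nat_lit 0x1041241), (nat_lit 0x1045041), (nat_lit 0x10c1041), (nat_lit 0x104134d), (nat_lit 0x10412d9), (nat_lit 0x1047043), (nat_lit 0x10e1043), (nat_lit 0x1047859), (nat_lit 0x10e1061)] (nat_lit 0x1041051) ZE_t (nat_lit 15) = true := by decide +kernel

theorem relNE_ok : allL relNE (fun w => Nat.beq (evC B5.A cNE w) B5.A.one) = true := by decide +kernel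

theorem xE_ok : allL xE (fun w => Nat.beq (evC B5.A cNE w) B5.A.one) = true := by decide +kernel

noncomputable def cNF : List ℕ := [(nat_lit 0x1041051), (nat_lit 0x1041241), (nat_lit 0x1041355), (nat_lit 0x10412cd), (nat_lit 0x1045041), (nat_lit 0x10c1041), (nat_lit 0x1047043), (nat_lit 0x10e1043), (nat_lit 0x1047859), (nat_lit 0x1022261)]

theorem cNF_ok : allL cNF B5.v = true := by decide +kernel

noncomputable def csF : ℕ := (nat_lit 0x10e2041)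

noncomputable def KF_t : ST :=
(.node (nat_lit 0x10a3041) (.node (nat_lit 0x1045041) (.node (nat_lit 0x1027241) (.node (nat_lit 0x1023345) (.node (nat_lit 0x10231c9) (.node (nat_lit 0x10230dd) (.node (nat_lit 0x1023051) (.leaf (nat_lit 0x1023041) (nat_lit 774))
 (.node (nat_lit 0x10230cd) (.leaf (nat_lit 0x1023051) (nat_lit 1030))
 (.leaf (nat_lit 0x10230cd) (nat_lit 1286))
)) (.node (nat_lit 0x1023145) (.leaf (nat_lit 0x10230dd) (nat_lit 1286))
 (.node (nat_lit 0x1023155) (.leaf (nat_lit 0x1023145) (nat_lit 1286))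
 (.leaf (nat_lit 0x1023155) (nat_lit 1030))
))) (.node (nat_lit 0x1023251) (.node (nat_lit 0x10231d9) (.leaf (nat_lit 0x10231c9) (nat_lit 1284))
 (.node (nat_lit 0x1023241) (.leaf (nat_lit 0x10231d9) (nat_lit 1028))
 (.leaf (nat_lit 0x1023241) (nat_lit 1030))
)) (.node (nat_lit 0x10232cd) (.leaf (nat_lit 0x1023251) (nat_lit 1286))
 (.node (nat_lit 0x10232dd) (.leaf (nat_lit 0x10232cd) (nat_lit 1030))
 (.leaf (nat_lit 0x10232dd) (nat_lit 1030))
)))) (.node (nat_lit 0x10270cd) (.node (nat_lit 0x10233d9) (.node (nat_lit 0x1023355) (.leaf (nat_lit 0x1023345) (nat_lit 1286))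
 (.node (nat_lit 0x10233c9) (.leaf (nat_lit 0x1023355) (nat_lit 1030))
 (.leaf (nat_lit 0x10233c9) (nat_lit 1030))
)) (.node (nat_lit 0x1027041) (.leaf (nat_lit 0x10233d9) (nat_lit 1286))
 (.node (nat_lit 0x1027051) (.leaf (nat_lit 0x1027041) (nat_lit 518))
 (.leaf (nat_lit 0x1027051) (nat_lit 774))
))) (.node (nat_lit 0x1027155) (.node (nat_lit 0x10270dd) (.leaf (nat_lit 0x10270cd) (nat_lit 1030))
 (.node (nat_lit 0x1027145) (.leaf (nat_lit 0x10270dd) (nat_lit 1286))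
 (.leaf (nat_lit 0x1027145) (nat_lit 1286))
)) (.node (nat_lit 0x10271c9) (.leaf (nat_lit 0x1027155) (nat_lit 1030))
 (.node (nat_lit 0x10271d9) (.leaf (nat_lit 0x10271c9) (nat_lit 1030))
 (.leaf (nat_lit 0x10271d9) (nat_lit 774))
))))) (.node (nat_lit 0x1041145) (.node (nat_lit 0x10273c9) (.node (nat_lit 0x10272dd) (.node (nat_lit 0x1027251) (.leaf (nat_lit 0x1027241) (nat_lit 774))
 (.node (nat_lit 0x10272cd) (.leaf (nat_lit 0x1027251) (nat_lit 1030))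
 (.leaf (nat_lit 0x10272cd) (nat_lit 774))
)) (.node (nat_lit 0x1027345) (.leaf (nat_lit 0x10272dd) (nat_lit 1030))
 (.node (nat_lit 0x1027355) (.leaf (nat_lit 0x1027345) (nat_lit 1030))
 (.leaf (nat_lit 0x1027355) (nat_lit 774))
))) (.node (nat_lit 0x1041051) (.node (nat_lit 0x10273d9) (.leaf (nat_lit 0x10273c9) (nat_lit 1286))
 (.node (nat_lit 0x1041041) (.leaf (nat_lit 0x10273d9) (nat_lit 1030))
 (.leaf (nat_lit 0x1041041) (nat_lit 0))
)) (.node (nat_lit 0x10410cd) (.leaf (nat_lit 0x1041051) (nat_lit 256))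
 (.node (nat_lit 0x10410dd) (.leaf (nat_lit 0x10410cd) (nat_lit 515))
 (.leaf (nat_lit 0x10410dd) (nat_lit 771))
)))) (.node (nat_lit 0x10412cd) (.node (nat_lit 0x10411d9) (.node (nat_lit 0x1041155) (.leaf (nat_lit 0x1041145) (nat_lit 770))
 (.node (nat_lit 0x10411c9) (.leaf (nat_lit 0x1041155) (nat_lit 514))
 (.leaf (nat_lit 0x10411c9) (nat_lit 771))
)) (.node (nat_lit 0x1041241) (.leaf (nat_lit 0x10411d9) (nat_lit 515))
 (.node (nat_lit 0x1041251) (.leaf (nat_lit 0x1041241) (nat_lit 257))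
 (.leaf (nat_lit 0x1041251) (nat_lit 513))
))) (.node (nat_lit 0x1041355) (.node (nat_lit 0x10412dd) (.leaf (nat_lit 0x10412cd) (nat_lit 259))
 (.node (nat_lit 0x1041345) (.leaf (nat_lit 0x10412dd) (nat_lit 515))
 (.leaf (nat_lit 0x1041345) (nat_lit 514))
)) (.node (nat_lit 0x10413c9) (.leaf (nat_lit 0x1041355) (nat_lit 258))
 (.node (nat_lit 0x10413d9) (.leaf (nat_lit 0x10413c9) (nat_lit 1027))
 (.leaf (nat_lit 0x10413d9) (nat_lit 771))
)))))) (.node (nat_lit 0x1062241) (.node (nat_lit 0x1045345) (.node (nat_lit 0x10451c9) (.node (nat_lit 0x10450dd) (.node (nat_lit 0x1045051) (.leaf (nat_lit 0x1045041) (nat_lit 260))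
 (.node (nat_lit 0x10450cd) (.leaf (nat_lit 0x1045051) (nat_lit 516))
 (.leaf (nat_lit 0x10450cd) (nat_lit 771))
)) (.node (nat_lit 0x1045145) (.leaf (nat_lit 0x10450dd) (nat_lit 515))
 (.node (nat_lit 0x1045155) (.leaf (nat_lit 0x1045145) (nat_lit 770))
 (.leaf (nat_lit 0x1045155) (nat_lit 772))
))) (.node (nat_lit 0x1045251) (.node (nat_lit 0x10451d9) (.leaf (nat_lit 0x10451c9) (nat_lit 770))
 (.node (nat_lit 0x1045241) (.leaf (nat_lit 0x10451d9) (nat_lit 772))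
 (.leaf (nat_lit 0x1045241) (nat_lit 516))
)) (.node (nat_lit 0x10452cd) (.leaf (nat_lit 0x1045251) (nat_lit 772))
 (.node (nat_lit 0x10452dd) (.leaf (nat_lit 0x10452cd) (nat_lit 516))
 (.leaf (nat_lit 0x10452dd) (nat_lit 772))
)))) (.node (nat_lit 0x10620cd) (.node (nat_lit 0x10453d9) (.node (nat_lit 0x1045355) (.leaf (nat_lit 0x1045345) (nat_lit 514))
 (.node (nat_lit 0x10453c9) (.leaf (nat_lit 0x1045355) (nat_lit 516))
 (.leaf (nat_lit 0x10453c9) (nat_lit 771))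
)) (.node (nat_lit 0x1062041) (.leaf (nat_lit 0x10453d9) (nat_lit 771))
 (.node (nat_lit 0x1062051) (.leaf (nat_lit 0x1062041) (nat_lit 518))
 (.leaf (nat_lit 0x1062051) (nat_lit 774))
))) (.node (nat_lit 0x1062155) (.node (nat_lit 0x10620dd) (.leaf (nat_lit 0x10620cd) (nat_lit 1030))
 (.node (nat_lit 0x1062145) (.leaf (nat_lit 0x10620dd) (nat_lit 774))
 (.leaf (nat_lit 0x1062145) (nat_lit 1030))
)) (.node (nat_lit 0x10621c9) (.leaf (nat_lit 0x1062155) (nat_lit 1030))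
 (.node (nat_lit 0x10621d9) (.leaf (nat_lit 0x10621c9) (nat_lit 1029))
 (.leaf (nat_lit 0x10621d9) (nat_lit 773))
))))) (.node (nat_lit 0x1066145) (.node (nat_lit 0x10623c9) (.node (nat_lit 0x10622dd) (.node (nat_lit 0x1062251) (.leaf (nat_lit 0x1062241) (nat_lit 774))
 (.node (nat_lit 0x10622cd) (.leaf (nat_lit 0x1062251) (nat_lit 1030))
 (.leaf (nat_lit 0x10622cd) (nat_lit 774))
)) (.node (nat_lit 0x1062345) (.leaf (nat_lit 0x10622dd) (nat_lit 1030))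
 (.node (nat_lit 0x1062355) (.leaf (nat_lit 0x1062345) (nat_lit 774))
 (.leaf (nat_lit 0x1062355) (nat_lit 774))
))) (.node (nat_lit 0x1066051) (.node (nat_lit 0x10623d9) (.leaf (nat_lit 0x10623c9) (nat_lit 1026))
 (.node (nat_lit 0x1066041) (.leaf (nat_lit 0x10623d9) (nat_lit 770))
 (.leaf (nat_lit 0x1066041) (nat_lit 518))
)) (.node (nat_lit 0x10660cd) (.leaf (nat_lit 0x1066051) (nat_lit 774))
 (.node (nat_lit 0x10660dd) (.leaf (nat_lit 0x10660cd) (nat_lit 1030))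
 (.leaf (nat_lit 0x10660dd) (nat_lit 1030))
)))) (.node (nat_lit 0x10662cd) (.node (nat_lit 0x10661d9) (.node (nat_lit 0x1066155) (.leaf (nat_lit 0x1066145) (nat_lit 1030))
 (.node (nat_lit 0x10661c9) (.leaf (nat_lit 0x1066155) (nat_lit 774))
 (.leaf (nat_lit 0x10661c9) (nat_lit 1026))
)) (.node (nat_lit 0x1066241) (.leaf (nat_lit 0x10661d9) (nat_lit 1030))
 (.node (nat_lit 0x1066251) (.leaf (nat_lit 0x1066241) (nat_lit 774))
 (.leaf (nat_lit 0x1066251) (nat_lit 1030))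
))) (.node (nat_lit 0x1066355) (.node (nat_lit 0x10662dd) (.leaf (nat_lit 0x10662cd) (nat_lit 774))
 (.node (nat_lit 0x1066345) (.leaf (nat_lit 0x10662dd) (nat_lit 774))
 (.leaf (nat_lit 0x1066345) (nat_lit 1030))
)) (.node (nat_lit 0x10663c9) (.leaf (nat_lit 0x1066355) (nat_lit 774))
 (.node (nat_lit 0x10663d9) (.leaf (nat_lit 0x10663c9) (nat_lit 770))
 (.leaf (nat_lit 0x10663d9) (nat_lit 1026))
))))))) (.node (nat_lit 0x10c5041) (.node (nat_lit 0x10a7241) (.node (nat_lit 0x10a3345) (.node (nat_lit 0x10a31c9) (.node (nat_lit 0x10a30dd) (.node (nat_lit 0x10a3051) (.leaf (nat_lit 0x10a3041) (nat_lit 774))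
 (.node (nat_lit 0x10a30cd) (.leaf (nat_lit 0x10a3051) (nat_lit 1030))
 (.leaf (nat_lit 0x10a30cd) (nat_lit 1286))
)) (.node (nat_lit 0x10a3145) (.leaf (nat_lit 0x10a30dd) (nat_lit 1030))
 (.node (nat_lit 0x10a3155) (.leaf (nat_lit 0x10a3145) (nat_lit 1286))
 (.leaf (nat_lit 0x10a3155) (nat_lit 1286))
))) (.node (nat_lit 0x10a3251) (.node (nat_lit 0x10a31d9) (.leaf (nat_lit 0x10a31c9) (nat_lit 1286))
 (.node (nat_lit 0x10a3241) (.leaf (nat_lit 0x10a31d9) (nat_lit 1030))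
 (.leaf (nat_lit 0x10a3241) (nat_lit 1030))
)) (.node (nat_lit 0x10a32cd) (.leaf (nat_lit 0x10a3251) (nat_lit 1286))
 (.node (nat_lit 0x10a32dd) (.leaf (nat_lit 0x10a32cd) (nat_lit 1030))
 (.leaf (nat_lit 0x10a32dd) (nat_lit 1286))
)))) (.node (nat_lit 0x10a70cd) (.node (nat_lit 0x10a33d9) (.node (nat_lit 0x10a3355) (.leaf (nat_lit 0x10a3345) (nat_lit 1030))
 (.node (nat_lit 0x10a33c9) (.leaf (nat_lit 0x10a3355) (nat_lit 1030))
 (.leaf (nat_lit 0x10a33c9) (nat_lit 1286))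
)) (.node (nat_lit 0x10a7041) (.leaf (nat_lit 0x10a33d9) (nat_lit 1030))
 (.node (nat_lit 0x10a7051) (.leaf (nat_lit 0x10a7041) (nat_lit 774))
 (.leaf (nat_lit 0x10a7051) (nat_lit 1030))
))) (.node (nat_lit 0x10a7155) (.node (nat_lit 0x10a70dd) (.leaf (nat_lit 0x10a70cd) (nat_lit 1026))
 (.node (nat_lit 0x10a7145) (.leaf (nat_lit 0x10a70dd) (nat_lit 1282))
 (.leaf (nat_lit 0x10a7145) (nat_lit 1030))
)) (.node (nat_lit 0x10a71c9) (.leaf (nat_lit 0x10a7155) (nat_lit 1286))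
 (.node (nat_lit 0x10a71d9) (.leaf (nat_lit 0x10a71c9) (nat_lit 1030))
 (.leaf (nat_lit 0x10a71d9) (nat_lit 1030))
))))) (.node (nat_lit 0x10c1145) (.node (nat_lit 0x10a73c9) (.node (nat_lit 0x10a72dd) (.node (nat_lit 0x10a7251) (.leaf (nat_lit 0x10a7241) (nat_lit 1030))
 (.node (nat_lit 0x10a72cd) (.leaf (nat_lit 0x10a7251) (nat_lit 1286))
 (.leaf (nat_lit 0x10a72cd) (nat_lit 1030))
)) (.node (nat_lit 0x10a7345) (.leaf (nat_lit 0x10a72dd) (nat_lit 1286))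
 (.node (nat_lit 0x10a7355) (.leaf (nat_lit 0x10a7345) (nat_lit 1286))
 (.leaf (nat_lit 0x10a7355) (nat_lit 1030))
))) (.node (nat_lit 0x10c1051) (.node (nat_lit 0x10a73d9) (.leaf (nat_lit 0x10a73c9) (nat_lit 1286))
 (.node (nat_lit 0x10c1041) (.leaf (nat_lit 0x10a73d9) (nat_lit 1286))
 (.leaf (nat_lit 0x10c1041) (nat_lit 261))
)) (.node (nat_lit 0x10c10cd) (.leaf (nat_lit 0x10c1051) (nat_lit 517))
 (.node (nat_lit 0x10c10dd) (.leaf (nat_lit 0x10c10cd) (nat_lit 773))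
 (.leaf (nat_lit 0x10c10dd) (nat_lit 771))
)))) (.node (nat_lit 0x10c12cd) (.node (nat_lit 0x10c11d9) (.node (nat_lit 0x10c1155) (.leaf (nat_lit 0x10c1145) (nat_lit 770))
 (.node (nat_lit 0x10c11c9) (.leaf (nat_lit 0x10c1155) (nat_lit 514))
 (.leaf (nat_lit 0x10c11c9) (nat_lit 771))
)) (.node (nat_lit 0x10c1241) (.leaf (nat_lit 0x10c11d9) (nat_lit 773))
 (.node (nat_lit 0x10c1251) (.leaf (nat_lit 0x10c1241) (nat_lit 517))
 (.leaf (nat_lit 0x10c1251) (nat_lit 773))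
))) (.node (nat_lit 0x10c1355) (.node (nat_lit 0x10c12dd) (.leaf (nat_lit 0x10c12cd) (nat_lit 517))
 (.node (nat_lit 0x10c1345) (.leaf (nat_lit 0x10c12dd) (nat_lit 515))
 (.leaf (nat_lit 0x10c1345) (nat_lit 773))
)) (.node (nat_lit 0x10c13c9) (.leaf (nat_lit 0x10c1355) (nat_lit 517))
 (.node (nat_lit 0x10c13d9) (.leaf (nat_lit 0x10c13c9) (nat_lit 771))
 (.leaf (nat_lit 0x10c13d9) (nat_lit 770))
)))))) (.node (nat_lit 0x10e2241) (.node (nat_lit 0x10c5345) (.node (nat_lit 0x10c51c9) (.node (nat_lit 0x10c50dd) (.node (nat_lit 0x10c5051) (.leaf (nat_lit 0x10c5041) (nat_lit 517))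
 (.node (nat_lit 0x10c50cd) (.leaf (nat_lit 0x10c5051) (nat_lit 773))
 (.leaf (nat_lit 0x10c50cd) (nat_lit 771))
)) (.node (nat_lit 0x10c5145) (.leaf (nat_lit 0x10c50dd) (nat_lit 773))
 (.node (nat_lit 0x10c5155) (.leaf (nat_lit 0x10c5145) (nat_lit 770))
 (.leaf (nat_lit 0x10c5155) (nat_lit 772))
))) (.node (nat_lit 0x10c5251) (.node (nat_lit 0x10c51d9) (.leaf (nat_lit 0x10c51c9) (nat_lit 1028))
 (.node (nat_lit 0x10c5241) (.leaf (nat_lit 0x10c51d9) (nat_lit 1029))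
 (.leaf (nat_lit 0x10c5241) (nat_lit 773))
)) (.node (nat_lit 0x10c52cd) (.leaf (nat_lit 0x10c5251) (nat_lit 1029))
 (.node (nat_lit 0x10c52dd) (.leaf (nat_lit 0x10c52cd) (nat_lit 773))
 (.leaf (nat_lit 0x10c52dd) (nat_lit 772))
)))) (.node (nat_lit 0x10e20cd) (.node (nat_lit 0x10c53d9) (.node (nat_lit 0x10c5355) (.leaf (nat_lit 0x10c5345) (nat_lit 773))
 (.node (nat_lit 0x10c53c9) (.leaf (nat_lit 0x10c5355) (nat_lit 773))
 (.leaf (nat_lit 0x10c53c9) (nat_lit 1029))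
)) (.node (nat_lit 0x10e2041) (.leaf (nat_lit 0x10c53d9) (nat_lit 1027))
 (.node (nat_lit 0x10e2051) (.leaf (nat_lit 0x10e2041) (nat_lit 262))
 (.leaf (nat_lit 0x10e2051) (nat_lit 518))
))) (.node (nat_lit 0x10e2155) (.node (nat_lit 0x10e20dd) (.leaf (nat_lit 0x10e20cd) (nat_lit 774))
 (.node (nat_lit 0x10e2145) (.leaf (nat_lit 0x10e20dd) (nat_lit 1030))
 (.leaf (nat_lit 0x10e2145) (nat_lit 1030))
)) (.node (nat_lit 0x10e21c9) (.leaf (nat_lit 0x10e2155) (nat_lit 774))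
 (.node (nat_lit 0x10e21d9) (.leaf (nat_lit 0x10e21c9) (nat_lit 770))
 (.leaf (nat_lit 0x10e21d9) (nat_lit 514))
))))) (.node (nat_lit 0x10e6145) (.node (nat_lit 0x10e23c9) (.node (nat_lit 0x10e22dd) (.node (nat_lit 0x10e2251) (.leaf (nat_lit 0x10e2241) (nat_lit 518))
 (.node (nat_lit 0x10e22cd) (.leaf (nat_lit 0x10e2251) (nat_lit 774))
 (.leaf (nat_lit 0x10e22cd) (nat_lit 518))
)) (.node (nat_lit 0x10e2345) (.leaf (nat_lit 0x10e22dd) (nat_lit 774))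
 (.node (nat_lit 0x10e2355) (.leaf (nat_lit 0x10e2345) (nat_lit 774))
 (.leaf (nat_lit 0x10e2355) (nat_lit 518))
))) (.node (nat_lit 0x10e6051) (.node (nat_lit 0x10e23d9) (.leaf (nat_lit 0x10e23c9) (nat_lit 1026))
 (.node (nat_lit 0x10e6041) (.leaf (nat_lit 0x10e23d9) (nat_lit 770))
 (.leaf (nat_lit 0x10e6041) (nat_lit 516))
)) (.node (nat_lit 0x10e60cd) (.leaf (nat_lit 0x10e6051) (nat_lit 772))
 (.node (nat_lit 0x10e60dd) (.leaf (nat_lit 0x10e60cd) (nat_lit 1028))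
 (.leaf (nat_lit 0x10e60dd) (nat_lit 1030))
)))) (.node (nat_lit 0x10e62cd) (.node (nat_lit 0x10e61d9) (.node (nat_lit 0x10e6155) (.leaf (nat_lit 0x10e6145) (nat_lit 771))
 (.node (nat_lit 0x10e61c9) (.leaf (nat_lit 0x10e6155) (nat_lit 1027))
 (.leaf (nat_lit 0x10e61c9) (nat_lit 770))
)) (.node (nat_lit 0x10e6241) (.leaf (nat_lit 0x10e61d9) (nat_lit 772))
 (.node (nat_lit 0x10e6251) (.leaf (nat_lit 0x10e6241) (nat_lit 772))
 (.leaf (nat_lit 0x10e6251) (nat_lit 1028))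
))) (.node (nat_lit 0x10e6355) (.node (nat_lit 0x10e62dd) (.leaf (nat_lit 0x10e62cd) (nat_lit 772))
 (.node (nat_lit 0x10e6345) (.leaf (nat_lit 0x10e62dd) (nat_lit 1028))
 (.leaf (nat_lit 0x10e6345) (nat_lit 1028))
)) (.node (nat_lit 0x10e63c9) (.leaf (nat_lit 0x10e6355) (nat_lit 772))
 (.node (nat_lit 0x10e63d9) (.leaf (nat_lit 0x10e63c9) (nat_lit 1026))
 (.leaf (nat_lit 0x10e63d9) (nat_lit 1028))
))))))))

theorem KF_ok : genOK B5.A [(nat_lit 0x1041051), (nat_lit 0x1041241), (nat_lit 0x1041355), (nat_lit 0x10412cd), (nat_lit 0x1045041), (nat_lit 0x10c1041), (nat_lit 0x10e2041)] KF_t (nat_lit 192) = true := by decide +kernel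

noncomputable def UF_t : ST :=
(.node (nat_lit 0x10c1051) (.node (nat_lit 0x1045051) (.node (nat_lit 0x1041251) (.leaf (nat_lit 0x1041241) (nat_lit 0))
 (.node (nat_lit 0x1045041) (.leaf (nat_lit 0x1041251) (nat_lit 262))
 (.leaf (nat_lit 0x1045041) (nat_lit 771))
)) (.node (nat_lit 0x1045251) (.node (nat_lit 0x1045241) (.leaf (nat_lit 0x1045051) (nat_lit 515))
 (.leaf (nat_lit 0x1045241) (nat_lit 264))
) (.node (nat_lit 0x10c1041) (.leaf (nat_lit 0x1045251) (nat_lit 520))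
 (.leaf (nat_lit 0x10c1041) (nat_lit 1032))
))) (.node (nat_lit 0x10c5041) (.node (nat_lit 0x10c1241) (.leaf (nat_lit 0x10c1051) (nat_lit 1030))
 (.node (nat_lit 0x10c1251) (.leaf (nat_lit 0x10c1241) (nat_lit 774))
 (.leaf (nat_lit 0x10c1251) (nat_lit 1030))
)) (.node (nat_lit 0x10c5241) (.node (nat_lit 0x10c5051) (.leaf (nat_lit 0x10c5041) (nat_lit 770))
 (.leaf (nat_lit 0x10c5051) (nat_lit 775))
) (.node (nat_lit 0x10c5251) (.leaf (nat_lit 0x10c5241) (nat_lit 775))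
 (.leaf (nat_lit 0x10c5251) (nat_lit 519))
))))

theorem UF_ok : orbOK B5.A [(nat_lit 0x1041051), (nat_lit 0x1041241), (nat_lit 0x1041355), (nat_lit 0x10412cd), (nat_lit 0x1045041), (nat_lit 0x10c1041), (nat_lit 0x1047043), (nat_lit 0x10e1043), (nat_lit 0x1047859)] (nat_lit 0x1041241) UF_t (nat_lit 14) = true := by decide +kernel

noncomputable def ZF_t : ST :=
(.node (nat_lit 0x10c1041) (.node (nat_lit 0x1045041) (.node (nat_lit 0x1041241) (.leaf (nat_lit 0x1041051) (nat_lit 0))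
 (.node (nat_lit 0x1041251) (.leaf (nat_lit 0x1041241) (nat_lit 518))
 (.leaf (nat_lit 0x1041251) (nat_lit 265))
)) (.node (nat_lit 0x1045241) (.node (nat_lit 0x1045051) (.leaf (nat_lit 0x1045041) (nat_lit 771))
 (.leaf (nat_lit 0x1045051) (nat_lit 1027))
) (.node (nat_lit 0x1045251) (.leaf (nat_lit 0x1045241) (nat_lit 776))
 (.leaf (nat_lit 0x1045251) (nat_lit 520))
))) (.node (nat_lit 0x10c5041) (.node (nat_lit 0x10c1241) (.node (nat_lit 0x10c1051) (.leaf (nat_lit 0x10c1041) (nat_lit 1033))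
 (.leaf (nat_lit 0x10c1051) (nat_lit 777))
) (.node (nat_lit 0x10c1251) (.leaf (nat_lit 0x10c1241) (nat_lit 1033))
 (.leaf (nat_lit 0x10c1251) (nat_lit 1030))
)) (.node (nat_lit 0x10c5241) (.node (nat_lit 0x10c5051) (.leaf (nat_lit 0x10c5041) (nat_lit 1031))
 (.leaf (nat_lit 0x10c5051) (nat_lit 1026))
) (.node (nat_lit 0x10c5251) (.leaf (nat_lit 0x10c5241) (nat_lit 775))
 (.leaf (nat_lit 0x10c5251) (nat_lit 1031))
))))

theorem ZF_ok : orbOK B5.A [(nat_lit 0x1041051), (nat_lit 0x1041241), (nat_lit 0x1041355), (nat_lit 0x10412cd), (nat_lit 0x1045041), (nat_lit 0x10c1041), (nat_lit 0x1047043), (nat_lit 0x10e1043), (nat_lit 0x1047859), (nat_lit 0x1022261)] (nat_lit 0x1041051) ZF_t (nat_lit 15) = true := by decide +kernel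

theorem relNF_ok : allL relNF (fun w => Nat.beq (evC B5.A cNF w) B5.A.one) = true := by decide +kernel

theorem xF_ok : allL xF (fun w => Nat.beq (evC B5.A cNF w) B5.A.one) = true := by decide +kernel

end Cfsg.Agent.Rec.McL
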