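import Mathlib
import Cfsg.Agent.Spor.Comp.Chain
import Cfsg.Agent.Rec.McL.TGD0
import Cfsg.Agent.Rec.McL.TGD1

/-! Generated by tools/pg: coset enumeration tG -/

set_option autoImplicit false
set_option maxRecDepth 100000
set_option linter.unusedVariables false
set_option exponentiation.threshold 100000

namespace Cfsg.Agent.Rec.McL

open Cfsg.Agent.Spor

noncomputable def tG_rels : LT :=
(.node (.node (.node (.node (.node (.node (.node (.leaf [])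
 (.leaf [nat_lit 2,nat_lit 5,nat_lit 6,nat_lit 10,nat_lit 6,nat_lit 5,nat_lit 3,nat_lit 10,nat_lit 6,nat_lit 10])
) (.leaf [nat_lit 5,nat_lit 7,nat_lit 5,nat_lit 7])
) (.node (.node (.leaf [nat_lit 0,nat_lit 5,nat_lit 0,nat_lit 5])
 (.leaf [nat_lit 4,nat_lit 8,nat_lit 10,nat_lit 5,nat_lit 10,nat_lit 8,nat_lit 7,nat_lit 10,nat_lit 6,nat_lit 7,nat_lit 10])
) (.leaf [nat_lit 0,nat_lit 2,nat_lit 3,nat_lit 8,nat_lit 3,nat_lit 8])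
)) (.node (.node (.node (.leaf [nat_lit 7,nat_lit 7])
 (.leaf [nat_lit 0,nat_lit 10,nat_lit 2,nat_lit 8,nat_lit 5,nat_lit 10,nat_lit 0,nat_lit 10,nat_lit 5,nat_lit 8,nat_lit 10])
) (.leaf [nat_lit 1,nat_lit 2,nat_lit 8,nat_lit 1,nat_lit 8])
) (.node (.node (.leaf [nat_lit 1,nat_lit 5,nat_lit 1,nat_lit 5])
 (.leaf [nat_lit 2,nat_lit 9,nat_lit 10,nat_lit 2,nat_lit 9,nat_lit 10,nat_lit 2,nat_lit 9,nat_lit 10,nat_lit 2,nat_lit 9,nat_lit 10])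
) (.leaf [nat_lit 1,nat_lit 10,nat_lit 1,nat_lit 10])
))) (.node (.node (.node (.node (.leaf [nat_lit 3,nat_lit 3])
 (.leaf [nat_lit 0,nat_lit 5,nat_lit 0,nat_lit 10,nat_lit 8,nat_lit 6,nat_lit 10,nat_lit 5,nat_lit 10,nat_lit 8,nat_lit 10])
) (.leaf [nat_lit 0,nat_lit 1,nat_lit 7,nat_lit 1,nat_lit 7])
) (.node (.node (.leaf [nat_lit 0,nat_lit 9,nat_lit 0,nat_lit 9])
 (.leaf [nat_lit 0,nat_lit 9,nat_lit 5,nat_lit 1,nat_lit 9,nat_lit 10,nat_lit 9,nat_lit 10,nat_lit 1,nat_lit 10,nat_lit 9,nat_lit 10])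
) (.leaf [nat_lit 5,nat_lit 8,nat_lit 5,nat_lit 8,nat_lit 5,nat_lit 8])
)) (.node (.node (.node (.leaf [nat_lit 0,nat_lit 1,nat_lit 0,nat_lit 1])
 (.leaf [nat_lit 1,nat_lit 3,nat_lit 5,nat_lit 10,nat_lit 9,nat_lit 10,nat_lit 1,nat_lit 10,nat_lit 9,nat_lit 10,nat_lit 3])
) (.leaf [nat_lit 2,nat_lit 6,nat_lit 9,nat_lit 2,nat_lit 9])
) (.node (.leaf [nat_lit 3,nat_lit 7,nat_lit 3,nat_lit 7])
 (.leaf [nat_lit 2,nat_lit 3,nat_lit 10,nat_lit 2,nat_lit 10])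
)))) (.node (.node (.node (.node (.node (.leaf [nat_lit 1,nat_lit 1])
 (.leaf [nat_lit 9,nat_lit 10,nat_lit 9,nat_lit 10,nat_lit 9,nat_lit 10,nat_lit 9,nat_lit 10,nat_lit 9,nat_lit 10])
) (.leaf [nat_lit 6,nat_lit 9,nat_lit 6,nat_lit 9])
) (.node (.node (.leaf [nat_lit 0,nat_lit 7,nat_lit 0,nat_lit 7])
 (.leaf [nat_lit 0,nat_lit 2,nat_lit 10,nat_lit 3,nat_lit 8,nat_lit 10,nat_lit 4,nat_lit 0,nat_lit 4,nat_lit 10,nat_lit 8,nat_lit 10])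
) (.leaf [nat_lit 0,nat_lit 6,nat_lit 8,nat_lit 9,nat_lit 8,nat_lit 9])
)) (.node (.node (.node (.leaf [nat_lit 9,nat_lit 9])
 (.leaf [nat_lit 0,nat_lit 10,nat_lit 9,nat_lit 2,nat_lit 4,nat_lit 10,nat_lit 1,nat_lit 10,nat_lit 2,nat_lit 9,nat_lit 10])
) (.leaf [nat_lit 2,nat_lit 3,nat_lit 6,nat_lit 3,nat_lit 6])
) (.node (.node (.leaf [nat_lit 2,nat_lit 6,nat_lit 2,nat_lit 6])
 (.leaf [nat_lit 5,nat_lit 6,nat_lit 10,nat_lit 5,nat_lit 8,nat_lit 10,nat_lit 5,nat_lit 10,nat_lit 6,nat_lit 8,nat_lit 10,nat_lit 6])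
) (.leaf [nat_lit 4,nat_lit 10,nat_lit 5,nat_lit 10])
))) (.node (.node (.node (.node (.leaf [nat_lit 5,nat_lit 5])
 (.leaf [nat_lit 0,nat_lit 6,nat_lit 10,nat_lit 6,nat_lit 10,nat_lit 1,nat_lit 8,nat_lit 4,nat_lit 8,nat_lit 4,nat_lit 10])
) (.leaf [nat_lit 0,nat_lit 3,nat_lit 5,nat_lit 3,nat_lit 5])
) (.node (.node (.leaf [nat_lit 1,nat_lit 3,nat_lit 1,nat_lit 3])
 (.leaf [nat_lit 2,nat_lit 6,nat_lit 7,nat_lit 9,nat_lit 10,nat_lit 9,nat_lit 3,nat_lit 7,nat_lit 9,nat_lit 10,nat_lit 9,nat_lit 10])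
) (.leaf [nat_lit 7,nat_lit 8,nat_lit 7,nat_lit 8,nat_lit 7,nat_lit 8])
)) (.node (.node (.node (.leaf [nat_lit 0,nat_lit 3,nat_lit 0,nat_lit 3])
 (.leaf [nat_lit 2,nat_lit 4,nat_lit 5,nat_lit 2,nat_lit 10,nat_lit 9,nat_lit 10,nat_lit 4,nat_lit 10,nat_lit 9,nat_lit 10])
) (.leaf [nat_lit 4,nat_lit 5,nat_lit 7,nat_lit 4,nat_lit 7])
) (.node (.leaf [nat_lit 4,nat_lit 6,nat_lit 4,nat_lit 6])
 (.leaf [nat_lit 6,nat_lit 10,nat_lit 6,nat_lit 10,nat_lit 6,nat_lit 10])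
))))) (.node (.node (.node (.node (.node (.node (.leaf [nat_lit 0,nat_lit 0])
 (.leaf [nat_lit 8,nat_lit 10,nat_lit 8,nat_lit 10,nat_lit 8,nat_lit 10,nat_lit 8,nat_lit 10,nat_lit 8,nat_lit 10])
) (.leaf [nat_lit 6,nat_lit 8,nat_lit 6,nat_lit 8])
) (.node (.node (.leaf [nat_lit 0,nat_lit 6,nat_lit 0,nat_lit 6])
 (.leaf [nat_lit 0,nat_lit 1,nat_lit 3,nat_lit 10,nat_lit 8,nat_lit 5,nat_lit 10,nat_lit 4,nat_lit 2,nat_lit 10,nat_lit 8,nat_lit 10])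
) (.leaf [nat_lit 0,nat_lit 4,nat_lit 5,nat_lit 9,nat_lit 5,nat_lit 9])
)) (.node (.node (.node (.leaf [nat_lit 8,nat_lit 8])
 (.leaf [nat_lit 0,nat_lit 10,nat_lit 8,nat_lit 1,nat_lit 10,nat_lit 5,nat_lit 10,nat_lit 2,nat_lit 4,nat_lit 8,nat_lit 10])
) (.leaf [nat_lit 1,nat_lit 4,nat_lit 9,nat_lit 1,nat_lit 9])
) (.node (.node (.leaf [nat_lit 2,nat_lit 3,nat_lit 2,nat_lit 3])
 (.leaf [nat_lit 4,nat_lit 8,nat_lit 5,nat_lit 10,nat_lit 8,nat_lit 5,nat_lit 10,nat_lit 8,nat_lit 5,nat_lit 10,nat_lit 8,nat_lit 10])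
) (.leaf [nat_lit 3,nat_lit 10,nat_lit 3,nat_lit 10])
))) (.node (.node (.node (.node (.leaf [nat_lit 4,nat_lit 4])
 (.leaf [nat_lit 0,nat_lit 5,nat_lit 10,nat_lit 9,nat_lit 10,nat_lit 9,nat_lit 0,nat_lit 9,nat_lit 10,nat_lit 9,nat_lit 10])
) (.leaf [nat_lit 0,nat_lit 2,nat_lit 4,nat_lit 2,nat_lit 4])
) (.node (.node (.leaf [nat_lit 1,nat_lit 2,nat_lit 1,nat_lit 2])
 (.leaf [nat_lit 0,nat_lit 10,nat_lit 2,nat_lit 5,nat_lit 9,nat_lit 10,nat_lit 4,nat_lit 10,nat_lit 1,nat_lit 9,nat_lit 2,nat_lit 10])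
) (.leaf [nat_lit 6,nat_lit 7,nat_lit 6,nat_lit 7,nat_lit 6,nat_lit 7])
)) (.node (.node (.node (.leaf [nat_lit 0,nat_lit 2,nat_lit 0,nat_lit 2])
 (.leaf [nat_lit 1,nat_lit 9,nat_lit 5,nat_lit 9,nat_lit 10,nat_lit 9,nat_lit 10,nat_lit 4,nat_lit 10,nat_lit 9,nat_lit 10])
) (.leaf [nat_lit 4,nat_lit 5,nat_lit 6,nat_lit 5,nat_lit 6])
) (.node (.leaf [nat_lit 4,nat_lit 5,nat_lit 4,nat_lit 5])
 (.leaf [nat_lit 6,nat_lit 7,nat_lit 10,nat_lit 6,nat_lit 7,nat_lit 10])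
)))) (.node (.node (.node (.node (.node (.leaf [nat_lit 2,nat_lit 2])
 (.leaf [nat_lit 0,nat_lit 4,nat_lit 10,nat_lit 9,nat_lit 10,nat_lit 9,nat_lit 1,nat_lit 9,nat_lit 10,nat_lit 9,nat_lit 10])
) (.leaf [nat_lit 0,nat_lit 1,nat_lit 6,nat_lit 1,nat_lit 6])
) (.node (.node (.leaf [nat_lit 0,nat_lit 8,nat_lit 0,nat_lit 8])
 (.leaf [nat_lit 0,nat_lit 7,nat_lit 8,nat_lit 1,nat_lit 10,nat_lit 7,nat_lit 8,nat_lit 10,nat_lit 7,nat_lit 1,nat_lit 8,nat_lit 10])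
) (.leaf [nat_lit 3,nat_lit 9,nat_lit 3,nat_lit 9,nat_lit 3,nat_lit 9])
)) (.node (.node (.node (.leaf [nat_lit 10,nat_lit 10])
 (.leaf [nat_lit 1,nat_lit 2,nat_lit 10,nat_lit 9,nat_lit 1,nat_lit 10,nat_lit 5,nat_lit 10,nat_lit 9,nat_lit 10,nat_lit 2])
) (.leaf [nat_lit 2,nat_lit 3,nat_lit 7,nat_lit 2,nat_lit 7])
) (.node (.leaf [nat_lit 2,nat_lit 8,nat_lit 2,nat_lit 8])
 (.leaf [nat_lit 0,nat_lit 1,nat_lit 10,nat_lit 0,nat_lit 10])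
))) (.node (.node (.node (.node (.leaf [nat_lit 6,nat_lit 6])
 (.leaf [nat_lit 0,nat_lit 8,nat_lit 10,nat_lit 1,nat_lit 10,nat_lit 8,nat_lit 10,nat_lit 8,nat_lit 3,nat_lit 8,nat_lit 10])
) (.leaf [nat_lit 1,nat_lit 2,nat_lit 5,nat_lit 2,nat_lit 5])
) (.node (.node (.leaf [nat_lit 1,nat_lit 4,nat_lit 1,nat_lit 4])
 (.leaf [nat_lit 2,nat_lit 8,nat_lit 10,nat_lit 8,nat_lit 5,nat_lit 10,nat_lit 3,nat_lit 10,nat_lit 5,nat_lit 8,nat_lit 10,nat_lit 8])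
) (.leaf [nat_lit 7,nat_lit 9,nat_lit 7,nat_lit 9,nat_lit 7,nat_lit 9])
)) (.node (.node (.node (.leaf [nat_lit 0,nat_lit 4,nat_lit 0,nat_lit 4])
 (.leaf [nat_lit 2,nat_lit 4,nat_lit 9,nat_lit 10,nat_lit 6,nat_lit 10,nat_lit 6,nat_lit 10,nat_lit 4,nat_lit 2,nat_lit 9])
) (.leaf [nat_lit 4,nat_lit 6,nat_lit 8,nat_lit 4,nat_lit 8])
) (.node (.leaf [nat_lit 4,nat_lit 9,nat_lit 4,nat_lit 9])
 (.leaf [nat_lit 0,nat_lit 10,nat_lit 5,nat_lit 9,nat_lit 10,nat_lit 1,nat_lit 4,nat_lit 10,nat_lit 9,nat_lit 10])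
))))))
noncomputable def tG_hws : LT :=
(.leaf [])

noncomputable def tG_inv : ℕ → ℕ := getP (nat_lit 8) (nat_lit 255) (nat_lit 0xa09080706050403020100)

noncomputable def tG_t : BT :=
(.node (.node (.node tG_t0 tG_t4) (.node tG_t2 tG_t6)) (.node (.node tG_t1 tG_t5) (.node tG_t3 tG_t7)))

noncomputable def tG_subs : LT :=
(.leaf [nat_lit 0,nat_lit 0,nat_lit 0,nat_lit 11])


noncomputable def tG : TC :=
  ⟨fun x c => Nat.rec (nat_lit 0) (fun j _ => Nat.shiftRight (chunk tG_t (nat_lit 4) x j) (Nat.mul (nat_lit 55) (Nat.land c (nat_lit 255)))) (Nat.add (Nat.shiftRight c (nat_lit 8)) (nat_lit 1)),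
  (nat_lit 15), (nat_lit 32767), (nat_lit 0x1ffffffff), (nat_lit 33), (nat_lit 0x3fffff), (nat_lit 0x1ffff8000), (nat_lit 22275), (nat_lit 22484), (nat_lit 11), (nat_lit 10), (nat_lit 11), (nat_lit 12), tG_inv, tG_rules, tG_subs⟩

end Cfsg.Agent.Rec.McL
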