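import Mathlib
import Cfsg.Agent.Rec.Pres
import Cfsg.Agent.Rec.Pair
import Cfsg.Agent.Rec.Lin
import Cfsg.Agent.Spor.NM.F3x8

/-! Generated by tools/rec: the double cover of A8 in dimension eight over the field with three elements -/

set_option autoImplicit false
set_option maxRecDepth 100000
set_option linter.unusedVariables false
set_option exponentiation.threshold 100000

namespace Cfsg.Agent.Rec.McL

open Cfsg.Agent.Spor Cfsg.Agent.Rec

universe u

/-- Pairs of packed matrices. -/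
noncomputable def A : Ar := pairAr NM.F3x8.mul (nat_lit 704) (nat_lit 0xffffffffffffffffffffffffffffffffffffffffffffffffffffffffffffffffffffffffffffffffffffffffffffffffffffffffffffffffffffffffffffffffffffffffffffffffffffffffffffffffffffffffffffffff) (nat_lit 0x20000000000000000000000004000000000000000000000000800000000000000000000000100000000000000000000000020000000000000000000000004000000000000000000000000800000000000000000000000100200000000000000000000000040000000000000000000000008000000000000000000000001000000000000000000000000200000000000000000000000040000000000000000000000008000000000000000000000001)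

theorem A_ok : pairOK NM.F3x8.one (nat_lit 704) (nat_lit 0xffffffffffffffffffffffffffffffffffffffffffffffffffffffffffffffffffffffffffffffffffffffffffffffffffffffffffffffffffffffffffffffffffffffffffffffffffffffffffffffffffffffffffffffff) (nat_lit 0x20000000000000000000000004000000000000000000000000800000000000000000000000100000000000000000000000020000000000000000000000004000000000000000000000000800000000000000000000000100200000000000000000000000040000000000000000000000008000000000000000000000001000000000000000000000000200000000000000000000000040000000000000000000000008000000000000000000000001) = true := by decide +kernel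

/-- The test for codes. -/
noncomputable def A_v : ℕ → Bool := pairV NM.F3x8.mul NM.F3x8.one NM.F3x8.ent (nat_lit 704) (nat_lit 0xffffffffffffffffffffffffffffffffffffffffffffffffffffffffffffffffffffffffffffffffffffffffffffffffffffffffffffffffffffffffffffffffffffffffffffffffffffffffffffffffffffffffffffffff)

noncomputable def cX : List ℕ := [(nat_lit 0x40000000000000000000000008000000000000000000000001000000000000000000000000200000000000000000000000040000000000000000000000008000000000000000000000001000000000000000000000000200400000000000000000000000080000000000000000000000010000000000000000000000002000000000000000000000000400000000000000000000000080000000000000000000000010000000000000000000000002), (nat_lit 0x20040080000400000000004004010000040000000000400400800002000000000000000000100000801002002004010000020000000000000000001000004010010000000000100000400802000000000010000080080100200801000002000000000020040080000200000000002008008000040000000000000000001000004008010040080080000200000000000000000020000040080200000000002000008008010000000000200000401001),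 (nat_lit 0x20080100000200000000002004008000020000000000200800800004000000000000000000100000400801004008008000020000000000000000002000004008020000000000200000800801000000000020000040100100200400800004000000000040040100000400000000004004008000020000000000000000001000008010020020040100000200000000000000000010000040100100000000001000004008020000000000100000800801), (nat_lit 0x20000000000400001002000004010010000040000000000400801000008000000000080100100000800000002000000000020000100100000800801000004000000020000000000200000802002000000000040000080100200000000002000008010000040080200000800000000008008020000040000000000400801000004000000040000000000200000802000004010020000040000000400000000004000008010040000000000200001001), (nat_lit 0x20000000000200000801000004008020000080000000000800802000004000000000040080100000400000004000000000020000080200000401002000004000000040000000000400000801004000000000020000100100200000000004000010020000040100100000400000000004008010000080000000000801001000008000000020000000000200001001000008008010000040000000200000000002000008020020000000000400000801),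 (nat_lit 0x20080080000400000000002004010000040000000000400400800004000000000000000000100000801001002004008000020000000000000000001000004008010000000000100000800802000000000020000080080100200401000002000000000040040080000200000000002008008000020000000000000000001000004008020040080100000200000000000000000020000040100200000000002000004008010000000000100000401001), (nat_lit 0x20040100000200000000004004008000020000000000200800800002000000000000000000100000400802004008010000020000000000000000002000004010020000000000200000400801000000000010000040100100200800800004000000000020040100000400000000004004008000040000000000000000001000008010010020040080000200000000000000000010000040080100000000001000008008020000000000200000800801), (nat_lit 0x20000000200400800000000004010000000000100200000400800000000010010020000000100200800000002000000020020040000000200000001004004000000000040080000000000802000004010000000000080100200000001002004000000000040080000000000801000008008000000000080200400000001004004000000040000000100200800000004000000020020040000000000801000000000008010000080080000000001001),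 (nat_lit 0x20000000100200400000000004008000000000080100000800800000000008020040000000100400400000004000000010020080000000400000002002004000000000080100000000000801000008008000000000100100200000002004008000000000040100000000001002000004008000000000100100200000001002008000000020000000200200400000002000000010040040000000000400800000000008020000040100000000000801), (nat_lit 0x20000000100400800000000004010000000000100100000400800000000008010040000000100200800000002000000020020080000000200000001002004000000000040100000000000802000008010000000000080100200000002002004000000000040080000000000802000008008000000000100200200000001004004000000040000000100200400000004000000020040040000000000800800000000008010000040080000000001001), (nat_lit 0x20000000200200400000000004008000000000080200000800800000000010020020000000100400400000004000000010020040000000400000002004004000000000080080000000000801000004008000000000100100200000001004008000000000040100000000001001000004008000000000080100400000001002008000000020000000200200800000002000000010020040000000000401000000000008020000080100000000000801),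 (nat_lit 0x20000000000400001001000004010020000040000000000400801000004000000000040100100000800000002000000000020000080100000801001000004000000020000000000400000802004000000000040000080100200000000002000008020000040080100000800000000008008020000080000000000800801000004000000040000000000200001002000004008020000040000000400000000002000008010020000000000200001001), (nat_lit 0x20000000000200000802000004008010000080000000000800802000008000000000080080100000400000004000000000020000100200000400802000004000000040000000000200000801002000000000020000100100200000000004000010010000040100200000400000000004008010000040000000000401001000008000000020000000000200000801000008010010000040000000200000000004000008020040000000000400000801)]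

theorem cX_ok : allL cX A_v = true := by decide +kernel

def exX0 : List (List ℕ) :=
  [[0, 0]]

def relX0 : List (List ℕ) := exX0

noncomputable def tX0_rels : LT :=
(.node (.leaf [])
 (.leaf [nat_lit 0,nat_lit 0])
)
noncomputable def tX0_hws : LT :=
(.leaf [])

noncomputable def tX0_inv : ℕ → ℕ := getP (nat_lit 8) (nat_lit 255) (nat_lit 0)

noncomputable def tX0_t : BT :=
(.node (.node (.leaf (nat_lit 0x9001))
 (.leaf (nat_lit 0x800000))
) (.leaf (nat_lit 0xff87fc))
)

noncomputable def tX0_rules : LT :=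
(.leaf [nat_lit 0,nat_lit 0,nat_lit 0,nat_lit 1])


noncomputable def tX0_subs : LT :=
(.leaf [nat_lit 0,nat_lit 0,nat_lit 0,nat_lit 1])


noncomputable def tX0 : TC :=
  ⟨fun x c => Nat.shiftRight (BT.get tX0_t x) (Nat.mul (nat_lit 13) c),
  (nat_lit 2), (nat_lit 3), (nat_lit 2047), (nat_lit 11), (nat_lit 3), (nat_lit 2044), (nat_lit 2), (nat_lit 2), (nat_lit 1), (nat_lit 0), (nat_lit 1), (nat_lit 2), tX0_inv, tX0_rules, tX0_subs⟩

theorem tX0_c1 : tX0.rules.all (ruleOK tX0.m tX0.inv tX0_rels) = true := by decide +kernel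
theorem tX0_c2 : tX0.subs.all (subOK tX0.m tX0.inv tX0_hws) = true := by decide +kernel
theorem tX0_c3 : tX0.base = true := by decide +kernel

theorem tX0_s0 : tX0.slots (nat_lit 0) (nat_lit 2) = true := by decide +kernel

theorem tX0_c4 : tX0.Upto tX0.N := ((TC.upto_zero tX0).step _ tX0_s0)
theorem tX0_c5 : tX0.UptoE tX0.N := (TC.uptoE_n tX0)
theorem tX0_bound {G : Type*} [Group G] {g : ℕ → G} {H : Subgroup G} (hinv : ∀ x < 1, g x * g (tX0_inv x) = 1)
    (hrels : ∀ i, evalW g (tX0_rels.get i) = 1) (hH : ∀ x < 0, g x ∈ H) (hhws : ∀ i, evalW g (tX0_hws.get i) ∈ H) :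
    H.relIndex (genLt g 1) ≠ 0 ∧ H.relIndex (genLt g 1) ≤ 2 :=
  TC.relIndex_le (T := tX0) hinv hrels hH hhws tX0_c1 tX0_c2 tX0_c3 tX0_c4 tX0_c5

theorem tX0_bd : Bound.{u} relX0 0 1 2 := fun _ _ _ _ hs hH =>
  tX0_bound (hs.hinv (by decide +kernel)) (hs.tree (by decide +kernel)) hH (leaf_nil_mem' _ _ (by decide +kernel))

theorem presX0 : Pres.{u} relX0 1 2 := pres_nil.step tX0_bd (by decide +kernel)

def exX1 : List (List ℕ) :=
  [[1, 2],
   [2, 1],
   [1, 1, 1],
   [0, 1, 0, 2]]

def relX1 : List (List ℕ) := relX0 ++ exX1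

noncomputable def tX1_rels : LT :=
(.node (.node (.node (.leaf [])
 (.leaf [nat_lit 1,nat_lit 1,nat_lit 1])
) (.leaf [nat_lit 1,nat_lit 2])
) (.node (.node (.leaf [nat_lit 0,nat_lit 0])
 (.leaf [nat_lit 0,nat_lit 1,nat_lit 0,nat_lit 2])
) (.leaf [nat_lit 2,nat_lit 1])
))
noncomputable def tX1_hws : LT :=
(.leaf [])

noncomputable def tX1_inv : ℕ → ℕ := getP (nat_lit 8) (nat_lit 255) (nat_lit 0x10200)

noncomputable def tX1_t : BT :=
(.node (.node (.node (.leaf (nat_lit 0x4822080d3800))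
 (.leaf (nat_lit 0x40804040000))
) (.leaf (nat_lit 0x881900081012))
) (.node (.leaf (nat_lit 0x14001e1005))
 (.leaf (nat_lit 0x7fc07fc07fc))
))

noncomputable def tX1_rules : LT :=
(.node (.node (.leaf [nat_lit 5,nat_lit 1,nat_lit 1,nat_lit 0,nat_lit 2,nat_lit 0,nat_lit 1])
 (.leaf [nat_lit 4,nat_lit 1,nat_lit 0,nat_lit 2,nat_lit 1,nat_lit 1])
) (.leaf [nat_lit 5,nat_lit 3,nat_lit 1,nat_lit 0,nat_lit 1,nat_lit 0,nat_lit 2])
)

noncomputable def tX1_subs : LT :=
(.leaf [nat_lit 0,nat_lit 0,nat_lit 0,nat_lit 3])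


noncomputable def tX1 : TC :=
  ⟨fun x c => Nat.shiftRight (BT.get tX1_t x) (Nat.mul (nat_lit 16) c),
  (nat_lit 2), (nat_lit 3), (nat_lit 2047), (nat_lit 11), (nat_lit 31), (nat_lit 2044), (nat_lit 3), (nat_lit 3), (nat_lit 3), (nat_lit 1), (nat_lit 3), (nat_lit 4), tX1_inv, tX1_rules, tX1_subs⟩

theorem tX1_c1 : tX1.rules.all (ruleOK tX1.m tX1.inv tX1_rels) = true := by decide +kernel
theorem tX1_c2 : tX1.subs.all (subOK tX1.m tX1.inv tX1_hws) = true := by decide +kernel
theorem tX1_c3 : tX1.base = true := by decide +kernel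

theorem tX1_s0 : tX1.slots (nat_lit 0) (nat_lit 3) = true := by decide +kernel

theorem tX1_c4 : tX1.Upto tX1.N := ((TC.upto_zero tX1).step _ tX1_s0)
theorem tX1_c5 : tX1.UptoE tX1.N := (TC.uptoE_n tX1)
theorem tX1_bound {G : Type*} [Group G] {g : ℕ → G} {H : Subgroup G} (hinv : ∀ x < 3, g x * g (tX1_inv x) = 1)
    (hrels : ∀ i, evalW g (tX1_rels.get i) = 1) (hH : ∀ x < 1, g x ∈ H) (hhws : ∀ i, evalW g (tX1_hws.get i) ∈ H) :
    H.relIndex (genLt g 3) ≠ 0 ∧ H.relIndex (genLt g 3) ≤ 3 :=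
  TC.relIndex_le (T := tX1) hinv hrels hH hhws tX1_c1 tX1_c2 tX1_c3 tX1_c4 tX1_c5

theorem tX1_bd : Bound.{u} relX1 1 3 3 := fun _ _ _ _ hs hH =>
  tX1_bound (hs.hinv (by decide +kernel)) (hs.tree (by decide +kernel)) hH (leaf_nil_mem' _ _ (by decide +kernel))

theorem presX1 : Pres.{u} relX1 3 6 := presX0.step tX1_bd (by decide +kernel)

def exX2 : List (List ℕ) :=
  [[3, 4],
   [4, 3],
   [3, 3, 3],
   [0, 3, 0, 4],
   [0, 1, 3, 1, 3]]

def relX2 : List (List ℕ) := relX1 ++ exX2

noncomputable def tX2_rels : LT :=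
(.node (.node (.node (.node (.leaf [])
 (.leaf [nat_lit 3,nat_lit 3,nat_lit 3])
) (.leaf [nat_lit 3,nat_lit 4])
) (.node (.node (.leaf [nat_lit 1,nat_lit 2])
 (.leaf [nat_lit 0,nat_lit 1,nat_lit 3,nat_lit 1,nat_lit 3])
) (.leaf [nat_lit 1,nat_lit 1,nat_lit 1])
)) (.node (.node (.node (.leaf [nat_lit 0,nat_lit 0])
 (.leaf [nat_lit 0,nat_lit 3,nat_lit 0,nat_lit 4])
) (.leaf [nat_lit 4,nat_lit 3])
) (.node (.leaf [nat_lit 2,nat_lit 1])
 (.leaf [nat_lit 0,nat_lit 1,nat_lit 0,nat_lit 2])
)))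
noncomputable def tX2_hws : LT :=
(.leaf [])

noncomputable def tX2_inv : ℕ → ℕ := getP (nat_lit 8) (nat_lit 255) (nat_lit 0x304010200)

noncomputable def tX2_t : BT :=
(.node (.node (.node (.leaf (nat_lit 0x841164814810148e000))
 (.leaf (nat_lit 0xc4126c8104001004032))
) (.node (.leaf (nat_lit 0xa40f48816420358e010))
 (.leaf (nat_lit 0x202202080040c00000))
)) (.node (.node (.leaf (nat_lit 0xe20020c00310e008))
 (.leaf (nat_lit 0x3ff007fe00ffc01ff8))
) (.leaf (nat_lit 0x136000e0002504019))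
))

noncomputable def tX2_rules : LT :=
(.node (.node (.node (.leaf [nat_lit 9,nat_lit 1,nat_lit 1,nat_lit 0,nat_lit 4,nat_lit 0,nat_lit 3])
 (.leaf [nat_lit 7,nat_lit 3,nat_lit 1,nat_lit 0,nat_lit 1,nat_lit 0,nat_lit 2])
) (.node (.leaf [nat_lit 10,nat_lit 3,nat_lit 0,nat_lit 2,nat_lit 3,nat_lit 0,nat_lit 1,nat_lit 3])
 (.leaf [nat_lit 10,nat_lit 2,nat_lit 0,nat_lit 4,nat_lit 1,nat_lit 3,nat_lit 0,nat_lit 1])
)) (.node (.node (.leaf [nat_lit 9,nat_lit 3,nat_lit 1,nat_lit 0,nat_lit 3,nat_lit 0,nat_lit 4])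
 (.leaf [nat_lit 6,nat_lit 1,nat_lit 0,nat_lit 2,nat_lit 1,nat_lit 1])
) (.leaf [nat_lit 8,nat_lit 1,nat_lit 0,nat_lit 4,nat_lit 3,nat_lit 3])
))

noncomputable def tX2_subs : LT :=
(.leaf [nat_lit 0,nat_lit 0,nat_lit 0,nat_lit 5])


noncomputable def tX2 : TC :=
  ⟨fun x c => Nat.shiftRight (BT.get tX2_t x) (Nat.mul (nat_lit 19) c),
  (nat_lit 3), (nat_lit 7), (nat_lit 8191), (nat_lit 13), (nat_lit 63), (nat_lit 8184), (nat_lit 4), (nat_lit 4), (nat_lit 5), (nat_lit 3), (nat_lit 5), (nat_lit 6), tX2_inv, tX2_rules, tX2_subs⟩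

theorem tX2_c1 : tX2.rules.all (ruleOK tX2.m tX2.inv tX2_rels) = true := by decide +kernel
theorem tX2_c2 : tX2.subs.all (subOK tX2.m tX2.inv tX2_hws) = true := by decide +kernel
theorem tX2_c3 : tX2.base = true := by decide +kernel

theorem tX2_s0 : tX2.slots (nat_lit 0) (nat_lit 4) = true := by decide +kernel

theorem tX2_c4 : tX2.Upto tX2.N := ((TC.upto_zero tX2).step _ tX2_s0)
theorem tX2_c5 : tX2.UptoE tX2.N := (TC.uptoE_n tX2)
theorem tX2_bound {G : Type*} [Group G] {g : ℕ → G} {H : Subgroup G} (hinv : ∀ x < 5, g x * g (tX2_inv x) = 1)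
    (hrels : ∀ i, evalW g (tX2_rels.get i) = 1) (hH : ∀ x < 3, g x ∈ H) (hhws : ∀ i, evalW g (tX2_hws.get i) ∈ H) :
    H.relIndex (genLt g 5) ≠ 0 ∧ H.relIndex (genLt g 5) ≤ 4 :=
  TC.relIndex_le (T := tX2) hinv hrels hH hhws tX2_c1 tX2_c2 tX2_c3 tX2_c4 tX2_c5

theorem tX2_bd : Bound.{u} relX2 3 5 4 := fun _ _ _ _ hs hH =>
  tX2_bound (hs.hinv (by decide +kernel)) (hs.tree (by decide +kernel)) hH (leaf_nil_mem' _ _ (by decide +kernel))

theorem presX2 : Pres.{u} relX2 5 24 := presX1.step tX2_bd (by decide +kernel)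

def exX3 : List (List ℕ) :=
  [[5, 6],
   [6, 5],
   [5, 5, 5],
   [0, 5, 0, 6],
   [0, 1, 5, 1, 5],
   [0, 3, 5, 3, 5]]

def relX3 : List (List ℕ) := relX2 ++ exX3

noncomputable def tX3_rels : LT :=
(.node (.node (.node (.node (.node (.leaf [])
 (.leaf [nat_lit 0,nat_lit 3,nat_lit 5,nat_lit 3,nat_lit 5])
) (.leaf [nat_lit 1,nat_lit 1,nat_lit 1])
) (.node (.leaf [nat_lit 3,nat_lit 4])
 (.leaf [nat_lit 0,nat_lit 1,nat_lit 3,nat_lit 1,nat_lit 3])
)) (.node (.node (.leaf [nat_lit 1,nat_lit 2])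
 (.leaf [nat_lit 3,nat_lit 3,nat_lit 3])
) (.node (.leaf [nat_lit 5,nat_lit 6])
 (.leaf [nat_lit 0,nat_lit 5,nat_lit 0,nat_lit 6])
))) (.node (.node (.node (.leaf [nat_lit 0,nat_lit 0])
 (.leaf [nat_lit 0,nat_lit 1,nat_lit 0,nat_lit 2])
) (.node (.leaf [nat_lit 4,nat_lit 3])
 (.leaf [nat_lit 5,nat_lit 5,nat_lit 5])
)) (.node (.node (.leaf [nat_lit 2,nat_lit 1])
 (.leaf [nat_lit 0,nat_lit 3,nat_lit 0,nat_lit 4])
) (.node (.leaf [nat_lit 6,nat_lit 5])
 (.leaf [nat_lit 0,nat_lit 1,nat_lit 5,nat_lit 1,nat_lit 5])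
))))
noncomputable def tX3_hws : LT :=
(.leaf [])

noncomputable def tX3_inv : ℕ → ℕ := getP (nat_lit 8) (nat_lit 255) (nat_lit 0x5060304010200)

noncomputable def tX3_t : BT :=
(.node (.node (.node (.node (.leaf (nat_lit 0x1241e4520a9890308080e21c000))
 (.leaf (nat_lit 0x204101010804180020a000000))
) (.leaf (nat_lit 0x1641c2720b19903c4103481c040))
) (.node (.leaf (nat_lit 0x1441f462099110344102261c020))
 (.leaf (nat_lit 0x184214820c1a10284000c008082))
)) (.node (.node (.leaf (nat_lit 0x2040009080050c001c41c010))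
 (.leaf (nat_lit 0x224000c98002400016408051))
) (.node (.leaf (nat_lit 0x1b1000b9800750002041c030))
 (.leaf (nat_lit 0x3ff001ff800ffc007fe003ff0))
)))

noncomputable def tX3_rules : LT :=
(.node (.node (.node (.node (.leaf [nat_lit 14,nat_lit 1,nat_lit 1,nat_lit 0,nat_lit 6,nat_lit 0,nat_lit 5])
 (.leaf [nat_lit 15,nat_lit 2,nat_lit 0,nat_lit 6,nat_lit 1,nat_lit 5,nat_lit 0,nat_lit 1])
) (.node (.leaf [nat_lit 13,nat_lit 1,nat_lit 0,nat_lit 6,nat_lit 5,nat_lit 5])
 (.leaf [nat_lit 16,nat_lit 2,nat_lit 0,nat_lit 6,nat_lit 3,nat_lit 5,nat_lit 0,nat_lit 3])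
)) (.node (.node (.leaf [nat_lit 15,nat_lit 3,nat_lit 0,nat_lit 2,nat_lit 5,nat_lit 0,nat_lit 1,nat_lit 5])
 (.leaf [nat_lit 12,nat_lit 3,nat_lit 0,nat_lit 2,nat_lit 3,nat_lit 0,nat_lit 1,nat_lit 3])
) (.leaf [nat_lit 8,nat_lit 1,nat_lit 0,nat_lit 2,nat_lit 1,nat_lit 1])
)) (.node (.node (.node (.leaf [nat_lit 14,nat_lit 3,nat_lit 1,nat_lit 0,nat_lit 5,nat_lit 0,nat_lit 6])
 (.leaf [nat_lit 11,nat_lit 3,nat_lit 1,nat_lit 0,nat_lit 3,nat_lit 0,nat_lit 4])
) (.leaf [nat_lit 9,nat_lit 3,nat_lit 1,nat_lit 0,nat_lit 1,nat_lit 0,nat_lit 2])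
) (.node (.node (.leaf [nat_lit 16,nat_lit 3,nat_lit 0,nat_lit 4,nat_lit 5,nat_lit 0,nat_lit 3,nat_lit 5])
 (.leaf [nat_lit 10,nat_lit 1,nat_lit 0,nat_lit 4,nat_lit 3,nat_lit 3])
) (.leaf [nat_lit 12,nat_lit 2,nat_lit 0,nat_lit 4,nat_lit 1,nat_lit 3,nat_lit 0,nat_lit 1])
)))

noncomputable def tX3_subs : LT :=
(.leaf [nat_lit 0,nat_lit 0,nat_lit 0,nat_lit 7])


noncomputable def tX3 : TC :=
  ⟨fun x c => Nat.shiftRight (BT.get tX3_t x) (Nat.mul (nat_lit 21) c),
  (nat_lit 4), (nat_lit 15), (nat_lit 16383), (nat_lit 14), (nat_lit 127), (nat_lit 16368), (nat_lit 5), (nat_lit 5), (nat_lit 7), (nat_lit 5), (nat_lit 7), (nat_lit 8), tX3_inv, tX3_rules, tX3_subs⟩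

theorem tX3_c1 : tX3.rules.all (ruleOK tX3.m tX3.inv tX3_rels) = true := by decide +kernel
theorem tX3_c2 : tX3.subs.all (subOK tX3.m tX3.inv tX3_hws) = true := by decide +kernel
theorem tX3_c3 : tX3.base = true := by decide +kernel

theorem tX3_s0 : tX3.slots (nat_lit 0) (nat_lit 5) = true := by decide +kernel

theorem tX3_c4 : tX3.Upto tX3.N := ((TC.upto_zero tX3).step _ tX3_s0)
theorem tX3_c5 : tX3.UptoE tX3.N := (TC.uptoE_n tX3)
theorem tX3_bound {G : Type*} [Group G] {g : ℕ → G} {H : Subgroup G} (hinv : ∀ x < 7, g x * g (tX3_inv x) = 1)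
    (hrels : ∀ i, evalW g (tX3_rels.get i) = 1) (hH : ∀ x < 5, g x ∈ H) (hhws : ∀ i, evalW g (tX3_hws.get i) ∈ H) :
    H.relIndex (genLt g 7) ≠ 0 ∧ H.relIndex (genLt g 7) ≤ 5 :=
  TC.relIndex_le (T := tX3) hinv hrels hH hhws tX3_c1 tX3_c2 tX3_c3 tX3_c4 tX3_c5

theorem tX3_bd : Bound.{u} relX3 5 7 5 := fun _ _ _ _ hs hH =>
  tX3_bound (hs.hinv (by decide +kernel)) (hs.tree (by decide +kernel)) hH (leaf_nil_mem' _ _ (by decide +kernel))

theorem presX3 : Pres.{u} relX3 7 120 := presX2.step tX3_bd (by decide +kernel)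

def exX4 : List (List ℕ) :=
  [[7, 8],
   [8, 7],
   [7, 7, 7],
   [0, 7, 0, 8],
   [0, 1, 7, 1, 7],
   [0, 3, 7, 3, 7],
   [0, 5, 7, 5, 7]]

def relX4 : List (List ℕ) := relX3 ++ exX4

noncomputable def tX4_rels : LT :=
(.node (.node (.node (.node (.node (.leaf [])
 (.leaf [nat_lit 0,nat_lit 5,nat_lit 0,nat_lit 6])
) (.leaf [nat_lit 7,nat_lit 8])
) (.node (.node (.leaf [nat_lit 3,nat_lit 4])
 (.leaf [nat_lit 0,nat_lit 7,nat_lit 0,nat_lit 8])
) (.leaf [nat_lit 3,nat_lit 3,nat_lit 3])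
)) (.node (.node (.node (.leaf [nat_lit 1,nat_lit 2])
 (.leaf [nat_lit 0,nat_lit 3,nat_lit 5,nat_lit 3,nat_lit 5])
) (.leaf [nat_lit 1,nat_lit 1,nat_lit 1])
) (.node (.node (.leaf [nat_lit 5,nat_lit 6])
 (.leaf [nat_lit 0,nat_lit 3,nat_lit 7,nat_lit 3,nat_lit 7])
) (.leaf [nat_lit 0,nat_lit 1,nat_lit 3,nat_lit 1,nat_lit 3])
))) (.node (.node (.node (.node (.leaf [nat_lit 0,nat_lit 0])
 (.leaf [nat_lit 0,nat_lit 1,nat_lit 5,nat_lit 1,nat_lit 5])
) (.leaf [nat_lit 8,nat_lit 7])
) (.node (.node (.leaf [nat_lit 4,nat_lit 3])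
 (.leaf [nat_lit 0,nat_lit 1,nat_lit 7,nat_lit 1,nat_lit 7])
) (.leaf [nat_lit 0,nat_lit 3,nat_lit 0,nat_lit 4])
)) (.node (.node (.node (.leaf [nat_lit 2,nat_lit 1])
 (.leaf [nat_lit 7,nat_lit 7,nat_lit 7])
) (.leaf [nat_lit 0,nat_lit 1,nat_lit 0,nat_lit 2])
) (.node (.node (.leaf [nat_lit 6,nat_lit 5])
 (.leaf [nat_lit 0,nat_lit 5,nat_lit 7,nat_lit 5,nat_lit 7])
) (.leaf [nat_lit 5,nat_lit 5,nat_lit 5])
))))
noncomputable def tX4_hws : LT :=
(.leaf [])

noncomputable def tX4_inv : ℕ → ℕ := getP (nat_lit 8) (nat_lit 255) (nat_lit 0x70805060304010200)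

noncomputable def tX4_t : BT :=
(.node (.node (.node (.node (.leaf (nat_lit 0x2042f2ac848431064612070804090838000))
 (.leaf (nat_lit 0x284342bc852451078652060400080010142))
) (.leaf (nat_lit 0x244322b4844241068632088408202038080))
) (.node (.node (.leaf (nat_lit 0x224302b084a43905c422078408151838040))
 (.leaf (nat_lit 0x206080408100808200840001070000000))
) (.leaf (nat_lit 0x2642d13884e4490706420984082b28380c0))
)) (.node (.node (.node (.leaf (nat_lit 0x3128004c4000582000c0c00101038020))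
 (.leaf (nat_lit 0x3ff0007fe000ffc001ff8003ff0007fe0))
) (.leaf (nat_lit 0x2c0800504000746001714001410380a0))
) (.node (.leaf (nat_lit 0x3328004210006c600119000121038060))
 (.leaf (nat_lit 0x3528005440007c6000580000d10100e1))
)))

noncomputable def tX4_rules : LT :=
(.node (.node (.node (.node (.node (.leaf [nat_lit 20,nat_lit 1,nat_lit 1,nat_lit 0,nat_lit 8,nat_lit 0,nat_lit 7])
 (.leaf [nat_lit 16,nat_lit 3,nat_lit 1,nat_lit 0,nat_lit 5,nat_lit 0,nat_lit 6])
) (.leaf [nat_lit 14,nat_lit 2,nat_lit 0,nat_lit 4,nat_lit 1,nat_lit 3,nat_lit 0,nat_lit 1])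
) (.node (.node (.leaf [nat_lit 23,nat_lit 3,nat_lit 0,nat_lit 6,nat_lit 7,nat_lit 0,nat_lit 5,nat_lit 7])
 (.leaf [nat_lit 23,nat_lit 2,nat_lit 0,nat_lit 8,nat_lit 5,nat_lit 7,nat_lit 0,nat_lit 5])
) (.leaf [nat_lit 14,nat_lit 3,nat_lit 0,nat_lit 2,nat_lit 3,nat_lit 0,nat_lit 1,nat_lit 3])
)) (.node (.node (.node (.leaf [nat_lit 21,nat_lit 3,nat_lit 0,nat_lit 2,nat_lit 7,nat_lit 0,nat_lit 1,nat_lit 7])
 (.leaf [nat_lit 18,nat_lit 3,nat_lit 0,nat_lit 4,nat_lit 5,nat_lit 0,nat_lit 3,nat_lit 5])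
) (.leaf [nat_lit 21,nat_lit 2,nat_lit 0,nat_lit 8,nat_lit 1,nat_lit 7,nat_lit 0,nat_lit 1])
) (.node (.leaf [nat_lit 11,nat_lit 3,nat_lit 1,nat_lit 0,nat_lit 1,nat_lit 0,nat_lit 2])
 (.leaf [nat_lit 18,nat_lit 2,nat_lit 0,nat_lit 6,nat_lit 3,nat_lit 5,nat_lit 0,nat_lit 3])
))) (.node (.node (.node (.node (.leaf [nat_lit 20,nat_lit 3,nat_lit 1,nat_lit 0,nat_lit 7,nat_lit 0,nat_lit 8])
 (.leaf [nat_lit 17,nat_lit 3,nat_lit 0,nat_lit 2,nat_lit 5,nat_lit 0,nat_lit 1,nat_lit 5])
) (.leaf [nat_lit 17,nat_lit 2,nat_lit 0,nat_lit 6,nat_lit 1,nat_lit 5,nat_lit 0,nat_lit 1])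
) (.node (.leaf [nat_lit 19,nat_lit 1,nat_lit 0,nat_lit 8,nat_lit 7,nat_lit 7])
 (.leaf [nat_lit 12,nat_lit 1,nat_lit 0,nat_lit 4,nat_lit 3,nat_lit 3])
)) (.node (.node (.node (.leaf [nat_lit 22,nat_lit 3,nat_lit 0,nat_lit 4,nat_lit 7,nat_lit 0,nat_lit 3,nat_lit 7])
 (.leaf [nat_lit 15,nat_lit 1,nat_lit 0,nat_lit 6,nat_lit 5,nat_lit 5])
) (.leaf [nat_lit 13,nat_lit 3,nat_lit 1,nat_lit 0,nat_lit 3,nat_lit 0,nat_lit 4])
) (.node (.leaf [nat_lit 10,nat_lit 1,nat_lit 0,nat_lit 2,nat_lit 1,nat_lit 1])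
 (.leaf [nat_lit 22,nat_lit 2,nat_lit 0,nat_lit 8,nat_lit 3,nat_lit 7,nat_lit 0,nat_lit 3])
))))

noncomputable def tX4_subs : LT :=
(.leaf [nat_lit 0,nat_lit 0,nat_lit 0,nat_lit 9])


noncomputable def tX4 : TC :=
  ⟨fun x c => Nat.shiftRight (BT.get tX4_t x) (Nat.mul (nat_lit 23) c),
  (nat_lit 5), (nat_lit 31), (nat_lit 32767), (nat_lit 15), (nat_lit 255), (nat_lit 32736), (nat_lit 6), (nat_lit 6), (nat_lit 9), (nat_lit 7), (nat_lit 9), (nat_lit 10), tX4_inv, tX4_rules, tX4_subs⟩

theorem tX4_c1 : tX4.rules.all (ruleOK tX4.m tX4.inv tX4_rels) = true := by decide +kernel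
theorem tX4_c2 : tX4.subs.all (subOK tX4.m tX4.inv tX4_hws) = true := by decide +kernel
theorem tX4_c3 : tX4.base = true := by decide +kernel

theorem tX4_s0 : tX4.slots (nat_lit 0) (nat_lit 6) = true := by decide +kernel

theorem tX4_c4 : tX4.Upto tX4.N := ((TC.upto_zero tX4).step _ tX4_s0)
theorem tX4_c5 : tX4.UptoE tX4.N := (TC.uptoE_n tX4)
theorem tX4_bound {G : Type*} [Group G] {g : ℕ → G} {H : Subgroup G} (hinv : ∀ x < 9, g x * g (tX4_inv x) = 1)
    (hrels : ∀ i, evalW g (tX4_rels.get i) = 1) (hH : ∀ x < 7, g x ∈ H) (hhws : ∀ i, evalW g (tX4_hws.get i) ∈ H) :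
    H.relIndex (genLt g 9) ≠ 0 ∧ H.relIndex (genLt g 9) ≤ 6 :=
  TC.relIndex_le (T := tX4) hinv hrels hH hhws tX4_c1 tX4_c2 tX4_c3 tX4_c4 tX4_c5

theorem tX4_bd : Bound.{u} relX4 7 9 6 := fun _ _ _ _ hs hH =>
  tX4_bound (hs.hinv (by decide +kernel)) (hs.tree (by decide +kernel)) hH (leaf_nil_mem' _ _ (by decide +kernel))

theorem presX4 : Pres.{u} relX4 9 720 := presX3.step tX4_bd (by decide +kernel)

def exX5 : List (List ℕ) :=
  [[9, 10],
   [10, 9],
   [9, 9, 9],
   [0, 9, 0, 10],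
   [0, 1, 9, 1, 9],
   [0, 3, 9, 3, 9],
   [0, 5, 9, 5, 9],
   [0, 7, 9, 7, 9]]

def relX5 : List (List ℕ) := relX4 ++ exX5

noncomputable def tX5_rels : LT :=
(.node (.node (.node (.node (.node (.leaf [])
 (.leaf [nat_lit 0,nat_lit 1,nat_lit 3,nat_lit 1,nat_lit 3])
) (.node (.leaf [nat_lit 7,nat_lit 8])
 (.leaf [nat_lit 0,nat_lit 3,nat_lit 7,nat_lit 3,nat_lit 7])
)) (.node (.node (.leaf [nat_lit 3,nat_lit 4])
 (.leaf [nat_lit 0,nat_lit 3,nat_lit 5,nat_lit 3,nat_lit 5])
) (.node (.leaf [nat_lit 1,nat_lit 1,nat_lit 1])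
 (.leaf [nat_lit 0,nat_lit 1,nat_lit 9,nat_lit 1,nat_lit 9])
))) (.node (.node (.node (.leaf [nat_lit 1,nat_lit 2])
 (.leaf [nat_lit 0,nat_lit 5,nat_lit 0,nat_lit 6])
) (.node (.leaf [nat_lit 9,nat_lit 10])
 (.leaf [nat_lit 9,nat_lit 9,nat_lit 9])
)) (.node (.node (.leaf [nat_lit 5,nat_lit 6])
 (.leaf [nat_lit 0,nat_lit 7,nat_lit 0,nat_lit 8])
) (.node (.leaf [nat_lit 3,nat_lit 3,nat_lit 3])
 (.leaf [nat_lit 0,nat_lit 5,nat_lit 9,nat_lit 5,nat_lit 9])
)))) (.node (.node (.node (.node (.leaf [nat_lit 0,nat_lit 0])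
 (.leaf [nat_lit 5,nat_lit 5,nat_lit 5])
) (.node (.leaf [nat_lit 8,nat_lit 7])
 (.leaf [nat_lit 0,nat_lit 5,nat_lit 7,nat_lit 5,nat_lit 7])
)) (.node (.node (.leaf [nat_lit 4,nat_lit 3])
 (.leaf [nat_lit 7,nat_lit 7,nat_lit 7])
) (.node (.leaf [nat_lit 0,nat_lit 1,nat_lit 0,nat_lit 2])
 (.leaf [nat_lit 0,nat_lit 3,nat_lit 9,nat_lit 3,nat_lit 9])
))) (.node (.node (.node (.leaf [nat_lit 2,nat_lit 1])
 (.leaf [nat_lit 0,nat_lit 1,nat_lit 5,nat_lit 1,nat_lit 5])
) (.node (.leaf [nat_lit 10,nat_lit 9])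
 (.leaf [nat_lit 0,nat_lit 9,nat_lit 0,nat_lit 10])
)) (.node (.node (.leaf [nat_lit 6,nat_lit 5])
 (.leaf [nat_lit 0,nat_lit 1,nat_lit 7,nat_lit 1,nat_lit 7])
) (.node (.leaf [nat_lit 0,nat_lit 3,nat_lit 0,nat_lit 4])
 (.leaf [nat_lit 0,nat_lit 7,nat_lit 9,nat_lit 7,nat_lit 9])
)))))
noncomputable def tX5_hws : LT :=
(.leaf [])

noncomputable def tX5_inv : ℕ → ℕ := getP (nat_lit 8) (nat_lit 255) (nat_lit 0x90a070805060304010200)

noncomputable def tX5_t : BT :=
(.node (.node (.node (.node (.leaf (nat_lit 0x192221a64372b48544390746120808040b0838000))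
 (.leaf (nat_lit 0x1d2210ae43c2c485e4590886520b8408403038100))
) (.node (.leaf (nat_lit 0x1b2239aa43a2bc850249078632098408262038080))
 (.leaf (nat_lit 0x104040206080408100808200850001090000000))
)) (.node (.node (.leaf (nat_lit 0x1a2229a84382b885644106c422088408191838040))
 (.leaf (nat_lit 0x1e2259b043e2c88624610906620704000a0010182))
) (.leaf (nat_lit 0x1c2249ac43514085a4510806420a84083328380c0))
)) (.node (.node (.node (.leaf (nat_lit 0x231800392800584000682000e0c00121038020))
 (.leaf (nat_lit 0x2618003f2800644000946000680000f1010121))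
) (.leaf (nat_lit 0x2518003408005c4000846001b14001610380a0))
) (.node (.node (.leaf (nat_lit 0x2418003b28004e10007c600149000141038060))
 (.leaf (nat_lit 0x1ff8003ff0007fe000ffc001ff8003ff0007fe0))
) (.leaf (nat_lit 0x2084003d28006040008c6002198001810380e0))
)))

noncomputable def tX5_rules : LT :=
(.node (.node (.node (.node (.node (.leaf [nat_lit 27,nat_lit 1,nat_lit 1,nat_lit 0,nat_lit 10,nat_lit 0,nat_lit 9])
 (.leaf [nat_lit 20,nat_lit 2,nat_lit 0,nat_lit 6,nat_lit 3,nat_lit 5,nat_lit 0,nat_lit 3])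
) (.node (.leaf [nat_lit 12,nat_lit 1,nat_lit 0,nat_lit 2,nat_lit 1,nat_lit 1])
 (.leaf [nat_lit 30,nat_lit 2,nat_lit 0,nat_lit 10,nat_lit 5,nat_lit 9,nat_lit 0,nat_lit 5])
)) (.node (.node (.leaf [nat_lit 30,nat_lit 3,nat_lit 0,nat_lit 6,nat_lit 9,nat_lit 0,nat_lit 5,nat_lit 9])
 (.leaf [nat_lit 19,nat_lit 3,nat_lit 0,nat_lit 2,nat_lit 5,nat_lit 0,nat_lit 1,nat_lit 5])
) (.node (.leaf [nat_lit 28,nat_lit 2,nat_lit 0,nat_lit 10,nat_lit 1,nat_lit 9,nat_lit 0,nat_lit 1])
 (.leaf [nat_lit 25,nat_lit 3,nat_lit 0,nat_lit 6,nat_lit 7,nat_lit 0,nat_lit 5,nat_lit 7])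
))) (.node (.node (.node (.leaf [nat_lit 28,nat_lit 3,nat_lit 0,nat_lit 2,nat_lit 9,nat_lit 0,nat_lit 1,nat_lit 9])
 (.leaf [nat_lit 29,nat_lit 2,nat_lit 0,nat_lit 10,nat_lit 3,nat_lit 9,nat_lit 0,nat_lit 3])
) (.node (.leaf [nat_lit 19,nat_lit 2,nat_lit 0,nat_lit 6,nat_lit 1,nat_lit 5,nat_lit 0,nat_lit 1])
 (.leaf [nat_lit 23,nat_lit 3,nat_lit 0,nat_lit 2,nat_lit 7,nat_lit 0,nat_lit 1,nat_lit 7])
)) (.node (.node (.leaf [nat_lit 26,nat_lit 1,nat_lit 0,nat_lit 10,nat_lit 9,nat_lit 9])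
 (.leaf [nat_lit 17,nat_lit 1,nat_lit 0,nat_lit 6,nat_lit 5,nat_lit 5])
) (.node (.leaf [nat_lit 16,nat_lit 3,nat_lit 0,nat_lit 2,nat_lit 3,nat_lit 0,nat_lit 1,nat_lit 3])
 (.leaf [nat_lit 31,nat_lit 2,nat_lit 0,nat_lit 10,nat_lit 7,nat_lit 9,nat_lit 0,nat_lit 7])
)))) (.node (.node (.node (.node (.leaf [nat_lit 27,nat_lit 3,nat_lit 1,nat_lit 0,nat_lit 9,nat_lit 0,nat_lit 10])
 (.leaf [nat_lit 24,nat_lit 2,nat_lit 0,nat_lit 8,nat_lit 3,nat_lit 7,nat_lit 0,nat_lit 3])
) (.node (.leaf [nat_lit 16,nat_lit 2,nat_lit 0,nat_lit 4,nat_lit 1,nat_lit 3,nat_lit 0,nat_lit 1])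
 (.leaf [nat_lit 22,nat_lit 3,nat_lit 1,nat_lit 0,nat_lit 7,nat_lit 0,nat_lit 8])
)) (.node (.node (.leaf [nat_lit 31,nat_lit 3,nat_lit 0,nat_lit 8,nat_lit 9,nat_lit 0,nat_lit 7,nat_lit 9])
 (.leaf [nat_lit 20,nat_lit 3,nat_lit 0,nat_lit 4,nat_lit 5,nat_lit 0,nat_lit 3,nat_lit 5])
) (.node (.leaf [nat_lit 15,nat_lit 3,nat_lit 1,nat_lit 0,nat_lit 3,nat_lit 0,nat_lit 4])
 (.leaf [nat_lit 21,nat_lit 1,nat_lit 0,nat_lit 8,nat_lit 7,nat_lit 7])
))) (.node (.node (.node (.leaf [nat_lit 29,nat_lit 3,nat_lit 0,nat_lit 4,nat_lit 9,nat_lit 0,nat_lit 3,nat_lit 9])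
 (.leaf [nat_lit 18,nat_lit 3,nat_lit 1,nat_lit 0,nat_lit 5,nat_lit 0,nat_lit 6])
) (.node (.leaf [nat_lit 23,nat_lit 2,nat_lit 0,nat_lit 8,nat_lit 1,nat_lit 7,nat_lit 0,nat_lit 1])
 (.leaf [nat_lit 24,nat_lit 3,nat_lit 0,nat_lit 4,nat_lit 7,nat_lit 0,nat_lit 3,nat_lit 7])
)) (.node (.node (.leaf [nat_lit 13,nat_lit 3,nat_lit 1,nat_lit 0,nat_lit 1,nat_lit 0,nat_lit 2])
 (.leaf [nat_lit 25,nat_lit 2,nat_lit 0,nat_lit 8,nat_lit 5,nat_lit 7,nat_lit 0,nat_lit 5])
) (.leaf [nat_lit 14,nat_lit 1,nat_lit 0,nat_lit 4,nat_lit 3,nat_lit 3])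
))))

noncomputable def tX5_subs : LT :=
(.leaf [nat_lit 0,nat_lit 0,nat_lit 0,nat_lit 11])


noncomputable def tX5 : TC :=
  ⟨fun x c => Nat.shiftRight (BT.get tX5_t x) (Nat.mul (nat_lit 23) c),
  (nat_lit 5), (nat_lit 31), (nat_lit 32767), (nat_lit 15), (nat_lit 255), (nat_lit 32736), (nat_lit 7), (nat_lit 7), (nat_lit 11), (nat_lit 9), (nat_lit 11), (nat_lit 12), tX5_inv, tX5_rules, tX5_subs⟩

theorem tX5_c1 : tX5.rules.all (ruleOK tX5.m tX5.inv tX5_rels) = true := by decide +kernel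
theorem tX5_c2 : tX5.subs.all (subOK tX5.m tX5.inv tX5_hws) = true := by decide +kernel
theorem tX5_c3 : tX5.base = true := by decide +kernel

theorem tX5_s0 : tX5.slots (nat_lit 0) (nat_lit 7) = true := by decide +kernel

theorem tX5_c4 : tX5.Upto tX5.N := ((TC.upto_zero tX5).step _ tX5_s0)
theorem tX5_c5 : tX5.UptoE tX5.N := (TC.uptoE_n tX5)
theorem tX5_bound {G : Type*} [Group G] {g : ℕ → G} {H : Subgroup G} (hinv : ∀ x < 11, g x * g (tX5_inv x) = 1)
    (hrels : ∀ i, evalW g (tX5_rels.get i) = 1) (hH : ∀ x < 9, g x ∈ H) (hhws : ∀ i, evalW g (tX5_hws.get i) ∈ H) :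
    H.relIndex (genLt g 11) ≠ 0 ∧ H.relIndex (genLt g 11) ≤ 7 :=
  TC.relIndex_le (T := tX5) hinv hrels hH hhws tX5_c1 tX5_c2 tX5_c3 tX5_c4 tX5_c5

theorem tX5_bd : Bound.{u} relX5 9 11 7 := fun _ _ _ _ hs hH =>
  tX5_bound (hs.hinv (by decide +kernel)) (hs.tree (by decide +kernel)) hH (leaf_nil_mem' _ _ (by decide +kernel))

theorem presX5 : Pres.{u} relX5 11 5040 := presX4.step tX5_bd (by decide +kernel)

def exX6 : List (List ℕ) :=
  [[11, 12],
   [12, 11],
   [11, 11, 11],
   [0, 11, 0, 12],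
   [0, 1, 11, 1, 11],
   [0, 3, 11, 3, 11],
   [0, 5, 11, 5, 11],
   [0, 7, 11, 7, 11],
   [0, 9, 11, 9, 11]]

def relX6 : List (List ℕ) := relX5 ++ exX6

noncomputable def tX6_rels : LT :=
(.node (.node (.node (.node (.node (.node (.leaf [])
 (.leaf [nat_lit 0,nat_lit 5,nat_lit 9,nat_lit 5,nat_lit 9])
) (.leaf [nat_lit 3,nat_lit 3,nat_lit 3])
) (.node (.node (.leaf [nat_lit 7,nat_lit 8])
 (.leaf [nat_lit 0,nat_lit 9,nat_lit 11,nat_lit 9,nat_lit 11])
) (.leaf [nat_lit 0,nat_lit 7,nat_lit 0,nat_lit 8])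
)) (.node (.node (.node (.leaf [nat_lit 3,nat_lit 4])
 (.leaf [nat_lit 0,nat_lit 1,nat_lit 11,nat_lit 1,nat_lit 11])
) (.leaf [nat_lit 0,nat_lit 5,nat_lit 0,nat_lit 6])
) (.node (.leaf [nat_lit 11,nat_lit 12])
 (.leaf [nat_lit 9,nat_lit 9,nat_lit 9])
))) (.node (.node (.node (.node (.leaf [nat_lit 1,nat_lit 2])
 (.leaf [nat_lit 11,nat_lit 11,nat_lit 11])
) (.leaf [nat_lit 0,nat_lit 1,nat_lit 3,nat_lit 1,nat_lit 3])
) (.node (.leaf [nat_lit 9,nat_lit 10])
 (.leaf [nat_lit 0,nat_lit 3,nat_lit 7,nat_lit 3,nat_lit 7])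
)) (.node (.node (.node (.leaf [nat_lit 5,nat_lit 6])
 (.leaf [nat_lit 0,nat_lit 5,nat_lit 11,nat_lit 5,nat_lit 11])
) (.leaf [nat_lit 0,nat_lit 3,nat_lit 5,nat_lit 3,nat_lit 5])
) (.node (.leaf [nat_lit 1,nat_lit 1,nat_lit 1])
 (.leaf [nat_lit 0,nat_lit 1,nat_lit 9,nat_lit 1,nat_lit 9])
)))) (.node (.node (.node (.node (.node (.leaf [nat_lit 0,nat_lit 0])
 (.leaf [nat_lit 0,nat_lit 7,nat_lit 9,nat_lit 7,nat_lit 9])
) (.leaf [nat_lit 0,nat_lit 3,nat_lit 0,nat_lit 4])
) (.node (.leaf [nat_lit 8,nat_lit 7])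
 (.leaf [nat_lit 0,nat_lit 1,nat_lit 7,nat_lit 1,nat_lit 7])
)) (.node (.node (.node (.leaf [nat_lit 4,nat_lit 3])
 (.leaf [nat_lit 0,nat_lit 3,nat_lit 11,nat_lit 3,nat_lit 11])
) (.leaf [nat_lit 0,nat_lit 1,nat_lit 5,nat_lit 1,nat_lit 5])
) (.node (.leaf [nat_lit 12,nat_lit 11])
 (.leaf [nat_lit 0,nat_lit 9,nat_lit 0,nat_lit 10])
))) (.node (.node (.node (.node (.leaf [nat_lit 2,nat_lit 1])
 (.leaf [nat_lit 0,nat_lit 11,nat_lit 0,nat_lit 12])
) (.leaf [nat_lit 5,nat_lit 5,nat_lit 5])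
) (.node (.leaf [nat_lit 10,nat_lit 9])
 (.leaf [nat_lit 0,nat_lit 5,nat_lit 7,nat_lit 5,nat_lit 7])
)) (.node (.node (.node (.leaf [nat_lit 6,nat_lit 5])
 (.leaf [nat_lit 0,nat_lit 7,nat_lit 11,nat_lit 7,nat_lit 11])
) (.leaf [nat_lit 7,nat_lit 7,nat_lit 7])
) (.node (.leaf [nat_lit 0,nat_lit 1,nat_lit 0,nat_lit 2])
 (.leaf [nat_lit 0,nat_lit 3,nat_lit 9,nat_lit 3,nat_lit 9])
)))))
noncomputable def tX6_hws : LT :=
(.leaf [])

noncomputable def tX6_inv : ℕ → ℕ := getP (nat_lit 8) (nat_lit 255) (nat_lit 0xb0c090a070805060304010200)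

noncomputable def tX6_t : BT :=
(.node (.node (.node (.node (.leaf (nat_lit 0x908ba3ba44e19621f8a790c042084218241208020682070000))
 (.leaf (nat_lit 0xa08c83c244c09a2220a990d443084c18a4190404250c070200))
) (.node (.leaf (nat_lit 0x988c03be4511982210a890b822884418641504041608070100))
 (.leaf (nat_lit 0xa88cc3c645719c2240aa90e443885418e41004000600020382))
)) (.node (.node (.leaf (nat_lit 0x948bc3bc44f1972200a810c442483e10441304040e86070080))
 (.leaf (nat_lit 0xa48b614445519b2230aa10dc43485018c41b04042c8e070280))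
) (.node (.leaf (nat_lit 0x9c8c43c045319921e84910cc42c84818841704041d8a070180))
 (.leaf (nat_lit 0x414080208040103020081010040408010c00008580000000))
))) (.node (.node (.node (.leaf (nat_lit 0xbe3800501800208a000c840003c0800200c000a04070040))
 (.leaf (nat_lit 0xb40800561800238a000e040005218005c1c000e04070240))
) (.node (.leaf (nat_lit 0xc638005418001e02000d040004a18003e14000c04070140))
 (.leaf (nat_lit 0x7fe0003ff0001ff8000ffc0007fe0003ff0001ff8000ffc0))
)) (.node (.node (.leaf (nat_lit 0xc23800521800218a000b410004618002f10000b040700c0))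
 (.leaf (nat_lit 0xce3800581800248a000e840005618000f000008840202c1))
) (.leaf (nat_lit 0xca38004b0400228a000d840004e18004d18000d040701c0))
)))

noncomputable def tX6_rules : LT :=
(.node (.node (.node (.node (.node (.node (.leaf [nat_lit 35,nat_lit 1,nat_lit 1,nat_lit 0,nat_lit 12,nat_lit 0,nat_lit 11])
 (.leaf [nat_lit 27,nat_lit 3,nat_lit 0,nat_lit 6,nat_lit 7,nat_lit 0,nat_lit 5,nat_lit 7])
) (.leaf [nat_lit 18,nat_lit 3,nat_lit 0,nat_lit 2,nat_lit 3,nat_lit 0,nat_lit 1,nat_lit 3])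
) (.node (.node (.leaf [nat_lit 15,nat_lit 3,nat_lit 1,nat_lit 0,nat_lit 1,nat_lit 0,nat_lit 2])
 (.leaf [nat_lit 33,nat_lit 3,nat_lit 0,nat_lit 8,nat_lit 9,nat_lit 0,nat_lit 7,nat_lit 9])
) (.leaf [nat_lit 22,nat_lit 3,nat_lit 0,nat_lit 4,nat_lit 5,nat_lit 0,nat_lit 3,nat_lit 5])
)) (.node (.node (.node (.leaf [nat_lit 38,nat_lit 3,nat_lit 0,nat_lit 6,nat_lit 11,nat_lit 0,nat_lit 5,nat_lit 11])
 (.leaf [nat_lit 29,nat_lit 3,nat_lit 1,nat_lit 0,nat_lit 9,nat_lit 0,nat_lit 10])
) (.leaf [nat_lit 31,nat_lit 2,nat_lit 0,nat_lit 10,nat_lit 3,nat_lit 9,nat_lit 0,nat_lit 3])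
) (.node (.leaf [nat_lit 25,nat_lit 2,nat_lit 0,nat_lit 8,nat_lit 1,nat_lit 7,nat_lit 0,nat_lit 1])
 (.leaf [nat_lit 38,nat_lit 2,nat_lit 0,nat_lit 12,nat_lit 5,nat_lit 11,nat_lit 0,nat_lit 5])
))) (.node (.node (.node (.node (.leaf [nat_lit 36,nat_lit 3,nat_lit 0,nat_lit 2,nat_lit 11,nat_lit 0,nat_lit 1,nat_lit 11])
 (.leaf [nat_lit 33,nat_lit 2,nat_lit 0,nat_lit 10,nat_lit 7,nat_lit 9,nat_lit 0,nat_lit 7])
) (.leaf [nat_lit 22,nat_lit 2,nat_lit 0,nat_lit 6,nat_lit 3,nat_lit 5,nat_lit 0,nat_lit 3])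
) (.node (.node (.leaf [nat_lit 18,nat_lit 2,nat_lit 0,nat_lit 4,nat_lit 1,nat_lit 3,nat_lit 0,nat_lit 1])
 (.leaf [nat_lit 40,nat_lit 2,nat_lit 0,nat_lit 12,nat_lit 9,nat_lit 11,nat_lit 0,nat_lit 9])
) (.leaf [nat_lit 27,nat_lit 2,nat_lit 0,nat_lit 8,nat_lit 5,nat_lit 7,nat_lit 0,nat_lit 5])
)) (.node (.node (.node (.leaf [nat_lit 40,nat_lit 3,nat_lit 0,nat_lit 10,nat_lit 11,nat_lit 0,nat_lit 9,nat_lit 11])
 (.leaf [nat_lit 31,nat_lit 3,nat_lit 0,nat_lit 4,nat_lit 9,nat_lit 0,nat_lit 3,nat_lit 9])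
) (.leaf [nat_lit 20,nat_lit 3,nat_lit 1,nat_lit 0,nat_lit 5,nat_lit 0,nat_lit 6])
) (.node (.leaf [nat_lit 36,nat_lit 2,nat_lit 0,nat_lit 12,nat_lit 1,nat_lit 11,nat_lit 0,nat_lit 1])
 (.leaf [nat_lit 25,nat_lit 3,nat_lit 0,nat_lit 2,nat_lit 7,nat_lit 0,nat_lit 1,nat_lit 7])
)))) (.node (.node (.node (.node (.node (.leaf [nat_lit 35,nat_lit 3,nat_lit 1,nat_lit 0,nat_lit 11,nat_lit 0,nat_lit 12])
 (.leaf [nat_lit 23,nat_lit 1,nat_lit 0,nat_lit 8,nat_lit 7,nat_lit 7])
) (.leaf [nat_lit 16,nat_lit 1,nat_lit 0,nat_lit 4,nat_lit 3,nat_lit 3])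
) (.node (.node (.leaf [nat_lit 14,nat_lit 1,nat_lit 0,nat_lit 2,nat_lit 1,nat_lit 1])
 (.leaf [nat_lit 28,nat_lit 1,nat_lit 0,nat_lit 10,nat_lit 9,nat_lit 9])
) (.leaf [nat_lit 19,nat_lit 1,nat_lit 0,nat_lit 6,nat_lit 5,nat_lit 5])
)) (.node (.node (.node (.leaf [nat_lit 39,nat_lit 3,nat_lit 0,nat_lit 8,nat_lit 11,nat_lit 0,nat_lit 7,nat_lit 11])
 (.leaf [nat_lit 30,nat_lit 3,nat_lit 0,nat_lit 2,nat_lit 9,nat_lit 0,nat_lit 1,nat_lit 9])
) (.leaf [nat_lit 37,nat_lit 2,nat_lit 0,nat_lit 12,nat_lit 3,nat_lit 11,nat_lit 0,nat_lit 3])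
) (.node (.leaf [nat_lit 30,nat_lit 2,nat_lit 0,nat_lit 10,nat_lit 1,nat_lit 9,nat_lit 0,nat_lit 1])
 (.leaf [nat_lit 24,nat_lit 3,nat_lit 1,nat_lit 0,nat_lit 7,nat_lit 0,nat_lit 8])
))) (.node (.node (.node (.node (.leaf [nat_lit 37,nat_lit 3,nat_lit 0,nat_lit 4,nat_lit 11,nat_lit 0,nat_lit 3,nat_lit 11])
 (.leaf [nat_lit 39,nat_lit 2,nat_lit 0,nat_lit 12,nat_lit 7,nat_lit 11,nat_lit 0,nat_lit 7])
) (.leaf [nat_lit 26,nat_lit 2,nat_lit 0,nat_lit 8,nat_lit 3,nat_lit 7,nat_lit 0,nat_lit 3])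
) (.node (.leaf [nat_lit 21,nat_lit 2,nat_lit 0,nat_lit 6,nat_lit 1,nat_lit 5,nat_lit 0,nat_lit 1])
 (.leaf [nat_lit 32,nat_lit 2,nat_lit 0,nat_lit 10,nat_lit 5,nat_lit 9,nat_lit 0,nat_lit 5])
)) (.node (.node (.node (.leaf [nat_lit 34,nat_lit 1,nat_lit 0,nat_lit 12,nat_lit 11,nat_lit 11])
 (.leaf [nat_lit 32,nat_lit 3,nat_lit 0,nat_lit 6,nat_lit 9,nat_lit 0,nat_lit 5,nat_lit 9])
) (.leaf [nat_lit 21,nat_lit 3,nat_lit 0,nat_lit 2,nat_lit 5,nat_lit 0,nat_lit 1,nat_lit 5])
) (.node (.leaf [nat_lit 17,nat_lit 3,nat_lit 1,nat_lit 0,nat_lit 3,nat_lit 0,nat_lit 4])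
 (.leaf [nat_lit 26,nat_lit 3,nat_lit 0,nat_lit 4,nat_lit 7,nat_lit 0,nat_lit 3,nat_lit 7])
)))))

noncomputable def tX6_subs : LT :=
(.leaf [nat_lit 0,nat_lit 0,nat_lit 0,nat_lit 13])


noncomputable def tX6 : TC :=
  ⟨fun x c => Nat.shiftRight (BT.get tX6_t x) (Nat.mul (nat_lit 25) c),
  (nat_lit 6), (nat_lit 63), (nat_lit 65535), (nat_lit 16), (nat_lit 511), (nat_lit 65472), (nat_lit 8), (nat_lit 8), (nat_lit 13), (nat_lit 11), (nat_lit 13), (nat_lit 14), tX6_inv, tX6_rules, tX6_subs⟩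

theorem tX6_c1 : tX6.rules.all (ruleOK tX6.m tX6.inv tX6_rels) = true := by decide +kernel
theorem tX6_c2 : tX6.subs.all (subOK tX6.m tX6.inv tX6_hws) = true := by decide +kernel
theorem tX6_c3 : tX6.base = true := by decide +kernel

theorem tX6_s0 : tX6.slots (nat_lit 0) (nat_lit 8) = true := by decide +kernel

theorem tX6_c4 : tX6.Upto tX6.N := ((TC.upto_zero tX6).step _ tX6_s0)
theorem tX6_c5 : tX6.UptoE tX6.N := (TC.uptoE_n tX6)
theorem tX6_bound {G : Type*} [Group G] {g : ℕ → G} {H : Subgroup G} (hinv : ∀ x < 13, g x * g (tX6_inv x) = 1)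
    (hrels : ∀ i, evalW g (tX6_rels.get i) = 1) (hH : ∀ x < 11, g x ∈ H) (hhws : ∀ i, evalW g (tX6_hws.get i) ∈ H) :
    H.relIndex (genLt g 13) ≠ 0 ∧ H.relIndex (genLt g 13) ≤ 8 :=
  TC.relIndex_le (T := tX6) hinv hrels hH hhws tX6_c1 tX6_c2 tX6_c3 tX6_c4 tX6_c5

theorem tX6_bd : Bound.{u} relX6 11 13 8 := fun _ _ _ _ hs hH =>
  tX6_bound (hs.hinv (by decide +kernel)) (hs.tree (by decide +kernel)) hH (leaf_nil_mem' _ _ (by decide +kernel))

theorem presX6 : Pres.{u} relX6 13 40320 := presX5.step tX6_bd (by decide +kernel)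

theorem relX_ok : allL relX6 (fun w => Nat.beq (evC A cX w) A.one) = true := by decide +kernel

def wH : List (List ℕ) :=
  [[0],
   [9, 12, 9, 5, 8, 5, 1, 4, 1],
   [9, 11, 3, 8, 2, 5, 3, 1],
   [5, 4, 11, 7, 2, 9, 3, 1],
   [11, 9, 3, 8, 2, 5, 3, 1],
   [5, 7, 2, 11, 3, 10, 3, 1],
   [9, 12, 9, 2, 7, 3, 6, 3, 1],
   [10, 11, 10, 8, 6, 1, 4, 1],
   [6, 1, 12, 8, 9, 8, 3, 1],
   [6, 8, 3, 12, 10, 5, 3, 1]]

noncomputable def cH : List ℕ := [(nat_lit 0x40000000000000000000000008000000000000000000000001000000000000000000000000200000000000000000000000040000000000000000000000008000000000000000000000001000000000000000000000000200400000000000000000000000080000000000000000000000010000000000000000000000002000000000000000000000000400000000000000000000000080000000000000000000000010000000000000000000000002), (nat_lit 0x40000100000000400800000004000010040000000200400001000000008010000000040000100200000001000008000010020000000200200001000000008008000020000100000000401000000008000010040000000100400001000000004008000000040000100400000002004000010000000080100000000400001002000000010000080000100200000002002000010000000080080000200001000000004010000000080000100400000001),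 (nat_lit 0x20000080200000000001000008000000020080100000200000801000000000020040000080100000000001000004000000040080100000000800000004008008000000080000000400401000002000010010000000000100200000802000000000010000080000000200801000002000008010000000000200400000801000000000010000040000000400801000000008000000040080080000000800000004004010000020000100100000000001), (nat_lit 0x40080000100000000800004008000020000000100000000000800004004000020020080000200000000800000000010000020040000200000000800002004000010020080000100000001000000000010000040040000100400800001000000008000040080000200000001000000000008000040040000200200800002000000008000000000100000200400002000000008000020040000100200800001000000010000000000100000400400001), (nat_lit 0x40000080000000401000000004000010020000000100200001000000004010000000040000100400000002000004000020020000000200200000800000008010000040000100000000801000000004000020040000000100400000800000004010000000040000100200000001002000010000000040100000000400001004000000020000040000200200000002002000008000000080100000400001000000008010000000040000200400000001),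 (nat_lit 0x80000000000000000000000000000000000200200000000000000000000000000000000200000000000000000010000000000000000000000000000010000000000000000000800000000008000000000000000000000000800000000000000000000000000000000002002000000000000000000000000000000002000000000000000000100000000000000000000000000000100000000000000000008000000000080000000000000000), (nat_lit 0x40000080200000000002000004000000020080080000200001002000000000020040000100200000000001000004000000020040100000000800000002004008000000040000000400400800004000010010000000000200400000802000000000020000040000000200800800002000010020000000000200400001002000000000010000040000000200401000000008000000020040080000000400000004004008000040000100100000000002), (nat_lit 0x100000000000000000000000000000100000000000000002000000000020000000000000000000000000008000000000000000000000000000000000020000080000000000000000000000000000000080000000000000001000000000000000000000000000001000000000000000020000000000200000000000000000000000000080000000000000000000000000000000000200000800000000000000000000000000000000800000),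 (nat_lit 0x20000100200000000002000008000000020040080000400000802000000000020040000100100000000002000004000000040040080000000400000002008008000000040000000200401000004000010020000000000100200001002000000000020000080000000200400800004000008020000000000200400001001000000000020000040000000400400800000004000000020080080000000400000002004010000040000100200000000001), (nat_lit 0x20080000000000800001004004000000000080000100000001002004000010000000000100200200000800000000010010040000080000400800000000004000010000000100100200001000002004000000000040000100200800000000008000010040040000000000800001000000010020040000100000000001002002000008000000000100100400000800004008000000000040000100000001001002000010000020040000000000400001)]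

theorem wH_ok : beqL (wH.map (evC A cX)) cH = true := by decide +kernel

end Cfsg.Agent.Rec.McL
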